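import Mathlib
import Cfsg.Agent.H73.Resistant.Basic

/-! The twist of a transvection by a torus element. -/

set_option autoImplicit false
set_option linter.style.haveILetI false
set_option linter.unusedSectionVars false

namespace Cfsg.Agent.H73.Resistant

open Subgroup (zpowers mem_zpowers zpowers_le)

variable {P : Type*} [Group P] [Finite P] {p : ℕ} [Fact p.Prime]

theorem mk_eq_iff_mem {M : Subgroup P} [M.Normal] {a b : P} :
    QuotientGroup.mk' M a = QuotientGroup.mk' M b ↔ a⁻¹ * b ∈ M := QuotientGroup.eq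

theorem mk_zpow_aut {M : Subgroup P} [M.Normal] (c : MulAut P) (hc : ∀ m ∈ M, c m ∈ M) {e v : P}
    (he : QuotientGroup.mk' M (c e) = QuotientGroup.mk' M (e * v))
    (hv : QuotientGroup.mk' M (c v) = QuotientGroup.mk' M v) (n : ℤ) :
    QuotientGroup.mk' M ((c ^ n) e) = QuotientGroup.mk' M (e * v ^ n) ∧
      QuotientGroup.mk' M ((c ^ n) v) = QuotientGroup.mk' M v := by
  set π := QuotientGroup.mk' M with hπ
  have hmap := map_eq_of_forall_mem hc
  have hcong : ∀ a b, π a = π b → π (c a) = π (c b) := fun a b h => by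
    rw [mk_eq_iff_mem] at h ⊢
    rw [← map_inv, ← map_mul]; exact hc _ h
  have hcong' : ∀ a b, π a = π b → π (c⁻¹ a) = π (c⁻¹ b) := fun a b h => by
    rw [mk_eq_iff_mem] at h ⊢
    rw [← map_inv, ← map_mul]
    obtain ⟨m, hm, hmv⟩ := hmap.ge h
    rw [← hmv]; show c⁻¹ (c m) ∈ M
    rwa [MulAut.inv_apply_self]
  induction n using Int.induction_on with
  | zero => simp
  | succ n ih =>
    constructor
    · rw [add_comm (n : ℤ), zpow_add, zpow_one, MulAut.mul_apply, hcong _ _ ih.1, map_mul, map_zpow,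
        map_mul, he, map_mul, map_mul, map_zpow, hv, zpow_add, zpow_one, map_mul, map_zpow, mul_assoc]
    · rw [add_comm (n : ℤ), zpow_add, zpow_one, MulAut.mul_apply, hcong _ _ ih.2, hv]
  | pred n ih =>
    have hv' : π (c⁻¹ v) = π v := by
      have := hcong' _ _ hv
      rwa [MulAut.inv_apply_self, eq_comm] at this
    have he' : π (c⁻¹ e) = π e * (π v)⁻¹ := by
      have := hcong' _ _ he
      rw [MulAut.inv_apply_self, map_mul, map_mul, hv'] at this
      rw [this, mul_inv_cancel_right]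
    constructor
    · rw [sub_eq_add_neg, add_comm _ (-1 : ℤ), zpow_add, zpow_neg_one, MulAut.mul_apply,
        hcong' _ _ ih.1, map_mul, map_zpow, map_mul, he', map_zpow, hv', zpow_add, zpow_neg_one,
        map_mul, map_mul, map_inv, map_zpow, mul_assoc]
    · rw [sub_eq_add_neg, add_comm _ (-1 : ℤ), zpow_add, zpow_neg_one, MulAut.mul_apply,
        hcong' _ _ ih.2, hv']

/-- An automorphism of `p`-power order modulo a subgroup of index `p` is trivial on the quotient. -/
theorem trivial_on_quotient {D : Subgroup P} [D.Normal] (hP : Nat.card P = p * Nat.card D)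
    (α : MulAut P) (hD : ∀ d ∈ D, α d ∈ D) (h : ∀ e, e⁻¹ * (α ^ p) e ∈ D) (e : P) :
    e⁻¹ * α e ∈ D := by
  have hcard : Nat.card (P ⧸ D) = p := by
    have h2 := Subgroup.card_eq_card_quotient_mul_card_subgroup D
    rw [hP] at h2
    exact (Nat.eq_of_mul_eq_mul_right Nat.card_pos h2).symm
  haveI := isCyclic_of_prime_card hcard
  set α' : MulAut (P ⧸ D) := QuotientGroup.congr D D α (map_eq_of_forall_mem hD) with hα'
  have hpow : ∀ (n : ℕ) (e : P), (α' ^ n) (QuotientGroup.mk' D e) = QuotientGroup.mk' D ((α ^ n) e) := by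
    intro n
    induction n with
    | zero => intro e; rfl
    | succ n ih => intro e; rw [pow_succ, MulAut.mul_apply, pow_succ, MulAut.mul_apply]; exact ih _
  have h1 : α' ^ p = 1 := MulEquiv.ext fun q => by
    obtain ⟨e, rfl⟩ := QuotientGroup.mk'_surjective D q
    rw [hpow, MulAut.one_apply]
    exact (mk_eq_iff_mem.2 (h e)).symm
  have h2 : α' = 1 := by
    rw [← orderOf_eq_one_iff]
    have hd := orderOf_dvd_natCard α'
    rw [IsCyclic.card_mulAut, hcard, Nat.totient_prime Fact.out] at hd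
    rcases (Nat.dvd_prime (Fact.out : p.Prime)).1 (orderOf_dvd_of_pow_eq_one h1) with h3 | h3
    · exact h3
    · exfalso
      have := (Fact.out : p.Prime).two_le
      have := Nat.le_of_dvd (by omega) hd
      omega
  have := hpow 1 e
  rw [h2, one_pow, MulAut.one_apply, pow_one] at this
  exact mk_eq_iff_mem.1 this

/-- Twisting: if `τ` acts as `2` on `P / D` and as `η` on `D / M`, it conjugates `c` to `c ^ (η h)`. -/
theorem twist {M D : Subgroup P} [M.Normal] (hMD : M ≤ D) (hcommM : ∀ a b : P, (a * b) * (b * a)⁻¹ ∈ M)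
    (hexp : ∀ a : P, a ^ p ∈ M) {v : P} (hv : v ∈ D)
    (hDv : ∀ d ∈ D, ∃ k : ℤ, QuotientGroup.mk' M d = QuotientGroup.mk' M (v ^ k))
    (c τ : MulAut P) (hcM : ∀ m ∈ M, c m ∈ M) (hτM : ∀ m ∈ M, τ m ∈ M)
    (hc1 : ∀ e, e⁻¹ * c e ∈ D) (hc2 : ∀ d ∈ D, d⁻¹ * c d ∈ M)
    (hτ2 : ∀ e, (e ^ 2)⁻¹ * τ e ∈ D) (hτD : ∀ d ∈ D, τ d ∈ D) {η h : ℤ}
    (hη : QuotientGroup.mk' M (τ v) = QuotientGroup.mk' M (v ^ η)) (hh : (p : ℤ) ∣ 2 * h - 1) :
    ∀ e, e⁻¹ * (τ * c * τ⁻¹ * (c ^ (η * h))⁻¹) e ∈ M := by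
  set π := QuotientGroup.mk' M with hπ
  letI : CommGroup (P ⧸ M) :=
    { (inferInstance : Group (P ⧸ M)) with
      mul_comm := fun a b => by
        obtain ⟨a, rfl⟩ := QuotientGroup.mk'_surjective M a
        obtain ⟨b, rfl⟩ := QuotientGroup.mk'_surjective M b
        rw [← map_mul, ← map_mul, ← mul_inv_eq_one, ← map_inv, ← map_mul]
        exact (QuotientGroup.eq_one_iff _).2 (hcommM a b) }
  have hV : ∀ w : P, π w ^ p = 1 := fun w => by
    rw [← map_pow]; exact (QuotientGroup.eq_one_iff _).2 (hexp w)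
  have hMτ := map_eq_of_forall_mem hτM
  have hcongτ : ∀ a b, π a = π b → π (τ a) = π (τ b) := fun a b h => by
    rw [mk_eq_iff_mem] at h ⊢
    rw [← map_inv, ← map_mul]; exact hτM _ h
  have hcd : ∀ d ∈ D, π (c d) = π d := fun d hd => (mk_eq_iff_mem.2 (hc2 d hd)).symm
  intro f
  set e := ((c ^ (η * h))⁻¹ : MulAut P) f with he
  suffices hmain : π ((τ * c * τ⁻¹) e) = π ((c ^ (η * h)) e) by
    rw [he, MulAut.apply_inv_self] at hmain
    exact mk_eq_iff_mem.1 hmain.symm
  obtain ⟨k, hk⟩ := hDv _ (hc1 e)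
  have hce : π (c e) = π (e * v ^ k) := by
    rw [map_mul, ← hk, ← map_mul, mul_inv_cancel_left]
  obtain ⟨h1, -⟩ := mk_zpow_aut c hcM hce (hcd _ (D.zpow_mem hv k)) (η * h)
  rw [h1]
  have hw : (e ^ h)⁻¹ * τ⁻¹ e ∈ D := by
    have h2 := D.inv_mem (hτ2 (e ^ h))
    obtain ⟨m, hm⟩ := hh
    have h4 : π (((e ^ h) ^ 2)⁻¹ * e) = 1 := by
      rw [map_mul, map_inv, map_pow, map_zpow, ← zpow_natCast (π e ^ h) 2, ← zpow_mul,
        show h * ((2 : ℕ) : ℤ) = 1 + (p : ℤ) * m by push_cast; linear_combination hm, zpow_add, zpow_mul,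
        zpow_natCast, hV, one_zpow, mul_one, zpow_one, inv_mul_cancel]
    have hτe : (τ (e ^ h))⁻¹ * e ∈ D := by
      have := D.mul_mem h2 (hMD ((QuotientGroup.eq_one_iff _).1 h4))
      rw [mul_inv_rev, inv_inv] at this
      simpa [mul_assoc] using this
    obtain ⟨m', hm', hme⟩ := (map_eq_of_forall_mem hτD).ge hτe
    have hme' : τ m' = (τ (e ^ h))⁻¹ * e := hme
    rw [show τ⁻¹ e = e ^ h * m' from τ.injective (by
      rw [MulAut.apply_inv_self, map_mul, hme', mul_inv_cancel_left]), inv_mul_cancel_left]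
    exact hm'
  set d := (e ^ h)⁻¹ * τ⁻¹ e with hd
  have hτe : τ⁻¹ e = e ^ h * d := by rw [hd, mul_inv_cancel_left]
  have h3 : π (c (τ⁻¹ e)) = π (τ⁻¹ e * v ^ (k * h)) := by
    rw [hτe, map_mul, map_mul, map_zpow c, map_zpow π, hce, hcd d hw, map_mul π (e ^ h * d),
      map_mul π (e ^ h), map_zpow π e, map_zpow π v, map_mul, map_zpow π v, mul_zpow, ← zpow_mul,
      mul_right_comm]
  rw [MulAut.mul_apply, MulAut.mul_apply, hcongτ _ _ h3, map_mul, MulAut.apply_inv_self, map_zpow,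
    map_mul, map_zpow, hη, map_mul, map_zpow, map_zpow, map_zpow, ← zpow_mul, ← zpow_mul]
  congr 1; ring_nf; rfl

end Cfsg.Agent.H73.Resistant
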