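import Mathlib
import Cfsg.Prelude.Def_OddOrderLocal
import Cfsg.Agent.H73.Resistant.Twist
import Cfsg.Agent.FusionSys.Essential
import Cfsg.Agent.FusionBatch.Basic

/-! Metacyclic `p`-groups, `p` odd, carry no essential subgroups. -/

set_option autoImplicit false
set_option linter.style.haveILetI false
set_option linter.unusedSectionVars false

open scoped commutatorElement

namespace Cfsg.Agent.H73.Resistant

open Subgroup (zpowers mem_zpowers zpowers_le)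
open Cfsg Cfsg.FusionSystem Cfsg.Agent.FusionSys Cfsg.Agent.FusionAlperin

theorem exists_decomp {X : Type*} [Group X] (hm : Cfsg.IsMetacyclic X) (K : Subgroup X) :
    ∃ a ∈ K, ∃ b ∈ K, ∀ k ∈ K, ∃ i j : ℤ, k = b ^ i * a ^ j := by
  obtain ⟨N, hNn, hN, hQ⟩ := hm
  haveI : IsCyclic (N ⊓ K : Subgroup X) :=
    isCyclic_of_injective (Subgroup.inclusion (inf_le_left : N ⊓ K ≤ N))
      (Subgroup.inclusion_injective _)
  obtain ⟨⟨a, haN, haK⟩, ha⟩ := IsCyclic.exists_generator (α := (N ⊓ K : Subgroup X))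
  haveI : IsCyclic (K.map (QuotientGroup.mk' N)) := inferInstance
  obtain ⟨⟨_, b, hbK, rfl⟩, hb⟩ := IsCyclic.exists_generator (α := K.map (QuotientGroup.mk' N))
  refine ⟨a, haK, b, hbK, fun k hk => ?_⟩
  obtain ⟨i, hi⟩ := hb ⟨QuotientGroup.mk' N k, Subgroup.mem_map_of_mem _ hk⟩
  have hi' : QuotientGroup.mk' N b ^ i = QuotientGroup.mk' N k := congrArg Subtype.val hi
  have hn : (b ^ i)⁻¹ * k ∈ N := by
    rw [← map_zpow] at hi'
    exact QuotientGroup.eq.1 hi'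
  obtain ⟨j, hj⟩ := ha ⟨_, hn, K.mul_mem (K.inv_mem (K.zpow_mem hbK i)) hk⟩
  have hj' : a ^ j = (b ^ i)⁻¹ * k := congrArg Subtype.val hj
  exact ⟨i, j, by rw [hj', mul_inv_cancel_left]⟩

variable {Ω : Type*} [Group Ω]

theorem card_le_sq_mul {p : ℕ} [Fact p.Prime] {K Φ : Subgroup Ω} [Finite K] [Finite Φ]
    (hn : ∀ k ∈ K, ∀ φ ∈ Φ, k * φ * k⁻¹ ∈ Φ) {a b : Ω} (ha : a ∈ K) (hb : b ∈ K)
    (hap : a ^ p ∈ Φ) (hbp : b ^ p ∈ Φ) (h : ∀ k ∈ K, ∃ i j : ℤ, k = b ^ i * a ^ j) :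
    Nat.card K ≤ p ^ 2 * Nat.card Φ := by
  have hp := (Fact.out : p.Prime)
  haveI : NeZero p := ⟨hp.ne_zero⟩
  let f : Fin p × Fin p × Φ → Ω := fun t => b ^ (t.1 : ℕ) * a ^ (t.2.1 : ℕ) * t.2.2
  have hsub : (K : Set Ω) ⊆ Set.range f := by
    intro k hk
    obtain ⟨i, j, rfl⟩ := h k hk
    have hpos : (0 : ℤ) < p := by exact_mod_cast hp.pos
    obtain ⟨i0, hi0⟩ := Int.eq_ofNat_of_zero_le (Int.emod_nonneg i hpos.ne')
    obtain ⟨j0, hj0⟩ := Int.eq_ofNat_of_zero_le (Int.emod_nonneg j hpos.ne')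
    have hi1 : i0 < p := by
      have := Int.emod_lt_of_pos i hpos; rw [hi0] at this; exact_mod_cast this
    have hj1 : j0 < p := by
      have := Int.emod_lt_of_pos j hpos; rw [hj0] at this; exact_mod_cast this
    have hb1 : b ^ i = b ^ i0 * (b ^ p) ^ (i / p) := by
      rw [← zpow_natCast b p, ← zpow_mul, ← zpow_natCast, ← zpow_add, ← hi0, Int.emod_add_mul_ediv]
    have ha1 : a ^ j = a ^ j0 * (a ^ p) ^ (j / p) := by
      rw [← zpow_natCast a p, ← zpow_mul, ← zpow_natCast, ← zpow_add, ← hj0, Int.emod_add_mul_ediv]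
    refine ⟨(⟨i0, hi1⟩, ⟨j0, hj1⟩, ⟨(a ^ j0)⁻¹ * (b ^ p) ^ (i / p) * a ^ j0 * (a ^ p) ^ (j / p),
      Φ.mul_mem ?_ (Φ.zpow_mem hap _)⟩), ?_⟩
    · simpa using hn _ (K.inv_mem (K.pow_mem ha j0)) _ (Φ.zpow_mem hbp (i / p))
    · show b ^ i0 * a ^ j0 * ((a ^ j0)⁻¹ * (b ^ p) ^ (i / p) * a ^ j0 * (a ^ p) ^ (j / p)) = _
      rw [hb1, ha1]; group
  calc Nat.card K ≤ (Set.range f).ncard := Set.ncard_le_ncard hsub (Set.finite_range f)
    _ ≤ Nat.card (Fin p × Fin p × Φ) := Finite.card_range_le f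
    _ = p ^ 2 * Nat.card Φ := by
      rw [Nat.card_prod, Nat.card_prod, Nat.card_eq_fintype_card, Fintype.card_fin, pow_two, mul_assoc]

variable {S : Subgroup Ω} [Finite S] {p : ℕ} [Fact p.Prime]

theorem not_essential_of_metacyclic (hS : IsPGroup p S) {F : FusionSystem S} (hF : F.IsSaturated p)
    (hp2 : p ≠ 2) (hm : Cfsg.IsMetacyclic S) {E : Subgroup Ω} (hE : F.IsEssential p E) : False := by
  classical
  have hp := (Fact.out : p.Prime)
  have hES : E ≤ S := hE.1.1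
  haveI : Finite E := finite_of_le ‹_› hES
  have hEp : IsPGroup p E := hS.to_le hES
  have hno := noOuterPNormal_of_essential (p := p) hE
  have hlt : E < S := by
    refine lt_of_le_of_ne hES fun h => ?_
    subst h
    obtain ⟨-, -, hn, Y, hY⟩ := hE
    haveI := hn
    obtain ⟨hd, -, -⟩ := spe_exists_sylow hY
    obtain ⟨R, hR⟩ := FusionBatch.autGroup_self_sylow hS hF
    exact R.not_dvd_index (hR ▸ hd)
  obtain ⟨g₁, hg₁N, hg₁E⟩ := SetLike.exists_of_lt (lt_normalizerIn_of_lt hS hlt)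
  -- an element whose `p`-th power lies in `E`
  obtain ⟨g₀, hg₀N, hg₀E, hg₀p⟩ : ∃ g ∈ normalizerIn S E, g ∉ E ∧ g ^ p ∈ E := by
    obtain ⟨k, hk⟩ := hS ⟨g₁, hg₁N.1⟩
    have hk' : g₁ ^ p ^ k = 1 := congrArg Subtype.val hk
    have hex : ∃ j, g₁ ^ p ^ j ∈ E := ⟨k, hk' ▸ E.one_mem⟩
    have h0 : Nat.find hex ≠ 0 := fun h => hg₁E (by simpa [h] using Nat.find_spec hex)
    refine ⟨g₁ ^ p ^ (Nat.find hex - 1), pow_mem hg₁N _, Nat.find_min hex (by omega), ?_⟩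
    rw [← pow_mul, ← pow_succ, Nat.sub_add_cancel (Nat.one_le_iff_ne_zero.2 h0)]
    exact Nat.find_spec hex
  set Φ := frattini E with hΦ
  have hΦchar : ∀ α ∈ F.autGroup E, Φ.map α.toMonoidHom = Φ := fun α _ => map_frattini_eq α
  set ΦΩ := Φ.map E.subtype with hΦΩ
  have hΦn : ∀ g ∈ Subgroup.normalizer (E : Set Ω), ∀ φ ∈ ΦΩ, g * φ * g⁻¹ ∈ ΦΩ := by
    rintro g hg _ ⟨φ, hφ, rfl⟩
    exact ⟨E.normalizerMonoidHom ⟨g, hg⟩ φ,
      (map_frattini_eq (E.normalizerMonoidHom ⟨g, hg⟩)).le ⟨φ, hφ, rfl⟩, rfl⟩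
  have hΦΩcard : Nat.card ΦΩ = Nat.card Φ := Subgroup.card_map_of_injective E.subtype_injective
  haveI : Finite ΦΩ := finite_of_le ‹Finite S› ((Subgroup.map_subtype_le Φ).trans hES)
  have hEpow : ∀ e ∈ E, e ^ p ∈ ΦΩ := fun e he =>
    ⟨⟨e, he⟩ ^ p, PGroup.pow_mem_frattini hEp _, rfl⟩
  -- covering by two cyclic groups
  have hcover : ∀ K : Subgroup Ω, K ≤ normalizerIn S E → (∀ k ∈ K, k ^ p ∈ ΦΩ) →
      Nat.card K ≤ p ^ 2 * Nat.card Φ := by
    intro K hK hKp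
    haveI : Finite K := finite_of_le ‹Finite S› (hK.trans inf_le_left)
    obtain ⟨a, ha, b, hb, hab⟩ := exists_decomp hm (K.subgroupOf S)
    rw [← hΦΩcard]
    refine card_le_sq_mul (fun k hk φ hφ => hΦn k (hK hk).2 φ hφ) (a := (a : Ω)) (b := (b : Ω)) ha hb
      (hKp _ ha) (hKp _ hb) fun k hk => ?_
    obtain ⟨i, j, hij⟩ := hab ⟨k, (hK hk).1⟩ hk
    exact ⟨i, j, by simpa using congrArg Subtype.val hij⟩
  obtain ⟨e, he⟩ := IsPGroup.iff_card.1 hEp
  have hΦlt : Φ ≠ ⊤ := by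
    intro h
    have hsub : (⊥ : Subgroup E) = ⊤ := frattini_nongenerating (by rw [← hΦ, h, bot_sup_eq])
    have hE1 : E = ⊥ := by
      rw [← E.range_subtype, MonoidHom.range_eq_map, ← hsub, Subgroup.map_bot]
    refine hlt.ne (le_antisymm hES ?_)
    intro s hs
    exact centralizerIn_self_centric hE.1 ⟨hs, Subgroup.mem_centralizer_iff.2 fun x hx => by
      rw [hE1] at hx; rw [(Subgroup.mem_bot.1 hx), one_mul, mul_one]⟩
  haveI : Φ.Normal := inferInstance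
  set c₀ := E.normalizerMonoidHom ⟨g₀, hg₀N.2⟩
  have hidx : Φ.index = p ^ 2 := by
    obtain ⟨i, hi⟩ := hEp.index Φ
    have hle : Nat.card E ≤ p ^ 2 * Nat.card Φ := hcover E (le_normalizerIn hES) hEpow
    have hm' := Φ.card_mul_index
    rw [hi] at hm'
    have hi2 : i ≤ 2 := by
      rw [← hm', mul_comm] at hle
      exact (Nat.pow_le_pow_iff_right hp.one_lt).1 (Nat.le_of_mul_le_mul_right hle Nat.card_pos)
    rcases (by omega : i = 0 ∨ i = 1 ∨ i = 2) with rfl | rfl | rfl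
    · exact absurd (Subgroup.index_eq_one.1 (hi.trans (pow_zero p))) hΦlt
    · exfalso
      refine hg₀E (mem_of_stab hEp hE.1 hno (le_refl Φ) (le_refl Φ) hΦchar hΦchar hg₀N ?_)
      rw [pow_one] at hm'
      have htr : ∀ x, x⁻¹ * c₀ x ∈ Φ := trivial_on_quotient (D := Φ) (by rw [← hm', mul_comm]) c₀
        (fun d hd => (map_frattini_eq c₀).le ⟨d, hd, rfl⟩) fun x => by
          have hcp : (c₀ ^ p) x = ⟨g₀ ^ p, hg₀p⟩ * x * (⟨g₀ ^ p, hg₀p⟩ : E)⁻¹ := by
            rw [← map_pow]; exact Subtype.ext rfl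
          rw [hcp]
          have := PGroup.commutatorElement_mem_frattini hEp x⁻¹ ⟨g₀ ^ p, hg₀p⟩
          rw [commutatorElement_def, inv_inv] at this
          simpa [mul_assoc] using this
      exact ⟨htr, fun d hd => Φ.mul_mem (Φ.inv_mem hd) ((map_frattini_eq c₀).le ⟨d, hd, rfl⟩)⟩
    · exact hi
  have hΦcard : Nat.card E = p ^ 2 * Nat.card Φ := by rw [← Φ.card_mul_index, hidx, mul_comm]
  -- choose `g` with `g ^ p` outside `Φ(E)`
  set N' := E ⊔ zpowers g₀ with hN'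
  have hN'N : N' ≤ normalizerIn S E := sup_le (le_normalizerIn hES) (zpowers_le.2 hg₀N)
  have hN'p : ∀ g ∈ N', g ^ p ∈ E := by
    intro g hg
    have hgE : E ≤ Subgroup.normalizer (E : Set Ω) := Subgroup.le_normalizer
    haveI hn : (E.subgroupOf N').Normal := by
      refine ⟨fun x hx y => ?_⟩
      exact (Subgroup.mem_normalizer_iff.1 (hN'N y.2).2 _).1 hx
    have htop : (E.subgroupOf N') ⊔ (zpowers g₀).subgroupOf N' = ⊤ := by
      rw [← Subgroup.subgroupOf_sup le_sup_left le_sup_right, Subgroup.subgroupOf_self]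
    obtain ⟨x, hx, y, hy, hxy⟩ := Subgroup.mem_sup_of_normal_left.1
      (htop.ge (Subgroup.mem_top (⟨g, hg⟩ : N')))
    obtain ⟨i, hi⟩ := Subgroup.mem_subgroupOf.1 hy
    refine Subgroup.mem_subgroupOf.1 (?_ : (⟨g, hg⟩ : N') ^ p ∈ E.subgroupOf N')
    rw [← QuotientGroup.eq_one_iff, QuotientGroup.mk_pow, ← hxy, QuotientGroup.mk_mul,
      (QuotientGroup.eq_one_iff x).2 hx, one_mul, ← QuotientGroup.mk_pow, QuotientGroup.eq_one_iff,
      Subgroup.mem_subgroupOf, Subgroup.coe_pow]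
    have hi' : g₀ ^ i = (y : Ω) := hi
    rw [← hi', ← zpow_natCast, ← zpow_mul, mul_comm, zpow_mul, zpow_natCast]
    exact E.zpow_mem hg₀p i
  obtain ⟨g, hgN', hgΦ⟩ : ∃ g ∈ N', g ^ p ∉ ΦΩ := by
    by_contra! h
    haveI : Finite N' := finite_of_le ‹Finite S› (hN'N.trans inf_le_left)
    have h1 := hcover N' hN'N h
    rw [← hΦcard] at h1
    exact hg₀E ((Subgroup.eq_of_le_of_card_ge le_sup_left h1).ge
      (Subgroup.mem_sup_right (mem_zpowers g₀)))
  have hgE : g ∉ E := fun h => hgΦ (hEpow g h)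
  have hgN := hN'N hgN'
  set c := E.normalizerMonoidHom ⟨g, hgN.2⟩ with hc
  set v : E := ⟨g ^ p, hN'p g hgN'⟩ with hv
  have hvΦ : v ∉ Φ := fun h => hgΦ ⟨v, h, rfl⟩
  have hcv : c v = v := Subtype.ext (by show g * g ^ p * g⁻¹ = g ^ p; group)
  set D := Φ ⊔ zpowers v with hD
  haveI hDn : D.Normal := ⟨fun d hd x => by
    have h := D.mul_mem (Subgroup.mem_sup_left (PGroup.commutatorElement_mem_frattini hEp x d) :
      ⁅x, d⁆ ∈ D) hd
    rwa [commutatorElement_def, inv_mul_cancel_right] at h⟩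
  have hcΦ : ∀ φ ∈ Φ, c φ ∈ Φ := fun φ hφ => (map_frattini_eq c).le ⟨φ, hφ, rfl⟩
  have hDv : ∀ d ∈ D, ∃ k : ℤ, QuotientGroup.mk' Φ d = QuotientGroup.mk' Φ (v ^ k) := by
    intro d hd
    obtain ⟨x, hx, y, ⟨k, rfl⟩, rfl⟩ := Subgroup.mem_sup_of_normal_left.1 hd
    exact ⟨k, by rw [map_mul, show QuotientGroup.mk' Φ x = 1 from (QuotientGroup.eq_one_iff x).2 hx, one_mul]⟩
  have hDcard : Nat.card D = p * Nat.card Φ := by
    have h1 := Cores.card_sup_dvd_mul (zpowers v) Φ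
    rw [sup_comm, ← hD, Nat.card_zpowers] at h1
    have h2 := Cores.card_comap_mk_eq Φ (D.map (QuotientGroup.mk' Φ))
    rw [Subgroup.comap_map_eq_self (by rw [QuotientGroup.ker_mk']; exact le_sup_left)] at h2
    rw [h2, mul_comm]
    congr 1
    have h3 : D.map (QuotientGroup.mk' Φ) = zpowers (QuotientGroup.mk' Φ v) := by
      rw [hD, Subgroup.map_sup, (Subgroup.map_eq_bot_iff Φ).2 (QuotientGroup.ker_mk' Φ).ge, bot_sup_eq,
        MonoidHom.map_zpowers]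
    rw [h3, Nat.card_zpowers]
    refine orderOf_eq_prime ?_ fun h => hvΦ ((QuotientGroup.eq_one_iff v).1 h)
    rw [← map_pow]; exact (QuotientGroup.eq_one_iff _).2 (PGroup.pow_mem_frattini hEp v)
  have hc2 : ∀ d ∈ D, d⁻¹ * c d ∈ Φ := by
    intro d hd
    obtain ⟨x, hx, y, ⟨k, rfl⟩, rfl⟩ := Subgroup.mem_sup_of_normal_left.1 hd
    rw [map_mul, map_zpow, hcv, show (x * v ^ k)⁻¹ * (c x * v ^ k) = (v ^ k)⁻¹ * (x⁻¹ * c x) * v ^ k by group]
    simpa using (inferInstance : Φ.Normal).conj_mem _ (Φ.mul_mem (Φ.inv_mem hx) (hcΦ x hx)) (v ^ k)⁻¹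
  have hcD : ∀ d ∈ D, c d ∈ D := fun d hd => by
    simpa using D.mul_mem hd (Subgroup.mem_sup_left (hc2 d hd) : d⁻¹ * c d ∈ D)
  have hc1 : ∀ x, x⁻¹ * c x ∈ D := trivial_on_quotient (by rw [hΦcard, hDcard, pow_two, mul_assoc]) c hcD
    fun x => by
      have hcp : (c ^ p) x = v * x * v⁻¹ := by rw [hc, ← map_pow]; exact Subtype.ext rfl
      rw [hcp]
      have := PGroup.commutatorElement_mem_frattini hEp x⁻¹ v
      rw [commutatorElement_def, inv_inv] at this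
      exact Subgroup.mem_sup_left (by simpa [mul_assoc] using this)
  have hcA : c ∈ F.autGroup E := conjAut_mem_autGroup hES hgN
  have hc0 : ∃ x, x⁻¹ * c x ∉ Φ := by
    by_contra! h
    exact hgE (mem_of_stab hEp hE.1 hno (le_refl Φ) (le_refl Φ) hΦchar hΦchar hgN
      ⟨h, fun d _ => h d⟩)
  obtain ⟨φ, hφA, d₀, hd₀, hφd⟩ : ∃ φ ∈ F.autGroup E, ∃ d ∈ D, φ d ∉ D := by
    by_contra! h
    exact hgE (mem_of_stab hEp hE.1 hno (le_sup_left : Φ ≤ D) (le_refl Φ)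
      (fun α hα => map_eq_of_forall_mem (h α hα)) hΦchar hgN ⟨hc1, hc2⟩)
  have hMchar : ∀ α ∈ F.autGroup E, ∀ m ∈ Φ, α m ∈ Φ := fun α hα m hm =>
    (hΦchar α hα).le ⟨m, hm, rfl⟩
  have hcomm : ∀ a b : E, a * b * (b * a)⁻¹ ∈ Φ := fun a b => by
    have := PGroup.commutatorElement_mem_frattini hEp a b
    rw [commutatorElement_def] at this
    simpa [mul_assoc] using this
  obtain ⟨τ, hτA, hτD, hτ2⟩ := exists_torus_aut hp2 Φ D le_sup_left hMchar hDcard
    (by rw [hΦcard, hDcard, pow_two, mul_assoc]) hcomm (PGroup.pow_mem_frattini hEp) hcA hφA hc1 hc2 hc0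
    ⟨d₀, hd₀, hφd⟩
  obtain ⟨η, hη⟩ := hDv _ (hτD v (Subgroup.mem_sup_right (mem_zpowers v)))
  obtain ⟨h, hh⟩ := exists_inverse_int (p := p) (a := (2 : ℤ)) (by
    intro hd
    have h' : p ∣ 2 := by exact_mod_cast hd
    exact hp2 ((Nat.prime_dvd_prime_iff_eq hp Nat.prime_two).1 h'))
  have hv' : v ∈ D := Subgroup.mem_sup_right (mem_zpowers v)
  have htw := twist (le_sup_left : Φ ≤ D) hcomm (PGroup.pow_mem_frattini hEp) hv' hDv c τ hcΦ
    (hMchar τ hτA) hc1 hc2 hτ2 hτD hη hh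
  obtain ⟨ψ, hψ, hψe, e', he', hψg⟩ := exists_ext_conj hE.1
    (saturated_receptive_of_fullyNormalized hS hF hE.2.1) hτA hgN (η * h)
    (inn_of_stab hEp hno (le_refl Φ) (le_refl Φ) hΦchar hΦchar
      (mul_mem (mul_mem (mul_mem hτA hcA) (Subgroup.inv_mem _ hτA))
        (Subgroup.inv_mem _ (Subgroup.zpow_mem _ hcA _)))
      ⟨htw, fun d _ => htw d⟩)
  -- compute the image of `g ^ p`
  set n := η * h with hn
  have hqn : ∀ e : E, ∀ k : ℕ, ∃ q : E, (g ^ n * e) ^ k = (g ^ n) ^ k * (q : Ω) ∧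
      QuotientGroup.mk' Φ q = QuotientGroup.mk' Φ e ^ k *
        QuotientGroup.mk' Φ (e⁻¹ * (c ^ (-n)) e) ^ k.choose 2 := by
    intro e k
    induction k with
    | zero => exact ⟨1, by simp, by simp⟩
    | succ k ih =>
      obtain ⟨q, hq, hqπ⟩ := ih
      refine ⟨(c ^ (-n)) q * e, ?_, ?_⟩
      · rw [pow_succ, hq, pow_succ]
        have : (((c ^ (-n)) q : E) : Ω) = (g ^ n)⁻¹ * q * g ^ n := by
          rw [hc, ← map_zpow]; show g ^ (-n) * q * (g ^ (-n))⁻¹ = _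
          rw [zpow_neg, inv_inv]
        rw [Subgroup.coe_mul, this]; group
      · obtain ⟨j, hj⟩ := hDv _ (hc1 e)
        have hce : QuotientGroup.mk' Φ (c e) = QuotientGroup.mk' Φ (e * v ^ j) := by
          rw [map_mul, ← hj, ← map_mul, mul_inv_cancel_left]
        have hvj : QuotientGroup.mk' Φ (c (v ^ j)) = QuotientGroup.mk' Φ (v ^ j) := by
          rw [map_zpow, hcv]
        obtain ⟨h1, h2⟩ := mk_zpow_aut c hcΦ hce hvj (-n)
        have hcn : ∀ m ∈ Φ, (c ^ (-n)) m ∈ Φ := fun m hm => (map_frattini_eq _).le ⟨m, hm, rfl⟩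
        set w := QuotientGroup.mk' Φ (e⁻¹ * (c ^ (-n)) e) with hw
        let ρ : E ⧸ Φ →* E ⧸ Φ := (QuotientGroup.congr Φ Φ (c ^ (-n))
          (map_eq_of_forall_mem hcn)).toMonoidHom
        have hρ : ∀ x, ρ (QuotientGroup.mk' Φ x) = QuotientGroup.mk' Φ ((c ^ (-n)) x) := fun x => rfl
        have hwv : w = QuotientGroup.mk' Φ ((v ^ j) ^ (-n)) := by
          rw [hw, map_mul, h1, map_inv, map_mul, inv_mul_cancel_left]
        have hρw : ρ w = w := by rw [hwv, hρ, map_zpow, map_zpow, h2, ← map_zpow]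
        have hρe : ρ (QuotientGroup.mk' Φ e) = QuotientGroup.mk' Φ e * w := by
          rw [hρ, hw, ← map_mul, mul_inv_cancel_left]
        have hcm : ∀ a b : E ⧸ Φ, Commute a b := fun a b => by
          obtain ⟨a, rfl⟩ := QuotientGroup.mk'_surjective Φ a
          obtain ⟨b, rfl⟩ := QuotientGroup.mk'_surjective Φ b
          show _ * _ = _ * _
          rw [← map_mul, ← map_mul, ← mul_inv_eq_one, ← map_inv, ← map_mul]
          exact (QuotientGroup.eq_one_iff _).2 (hcomm a b)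
        rw [map_mul, ← hρ, hqπ, map_mul, map_pow, map_pow, hρe, hρw, (hcm _ _).mul_pow,
          show Nat.choose (k + 1) 2 = k + k.choose 2 by
            rw [Nat.choose_succ_succ, Nat.choose_one_right],
          pow_add w, pow_succ]
        letI : CommGroup (E ⧸ Φ) :=
          { (inferInstance : Group (E ⧸ Φ)) with mul_comm := fun a b => (hcm a b).eq }
        ac_rfl
  obtain ⟨q, hq, hqπ⟩ := hqn ⟨e', he'⟩ p
  have hV : ∀ w : E, QuotientGroup.mk' Φ w ^ p = 1 := fun w => by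
    rw [← map_pow]; exact (QuotientGroup.eq_one_iff _).2 (PGroup.pow_mem_frattini hEp w)
  have hq1 : q ∈ Φ := by
    refine (QuotientGroup.eq_one_iff q).1 ?_
    show QuotientGroup.mk' Φ q = 1
    obtain ⟨m, hm⟩ := hp.dvd_choose_self two_ne_zero (by have := hp.two_le; omega : 2 < p)
    rw [hqπ, hV, one_mul, hm, pow_mul, hV, one_pow]
  have hkey : τ v = v ^ n * q := by
    refine Subtype.ext ?_
    have h1 := hψe v
    rw [← h1, show (Subgroup.inclusion le_sup_left v : ↥(E ⊔ zpowers g)) =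
      (⟨g, Subgroup.mem_sup_right (mem_zpowers g)⟩ : ↥(E ⊔ zpowers g)) ^ p from Subtype.ext rfl,
      map_pow, hψg, hq, Subgroup.coe_mul, Subgroup.coe_zpow]
    show (g ^ n) ^ p * (q : Ω) = (g ^ p) ^ n * q
    rw [← zpow_natCast, ← zpow_mul, mul_comm n, zpow_mul, zpow_natCast]
  rw [hkey, map_mul, show QuotientGroup.mk' Φ q = 1 from (QuotientGroup.eq_one_iff q).2 hq1, mul_one,
    map_zpow, map_zpow] at hη
  set w := QuotientGroup.mk' Φ v
  have how : orderOf w = p := orderOf_eq_prime (hV v) fun h => hvΦ ((QuotientGroup.eq_one_iff v).1 h)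
  have hd : (p : ℤ) ∣ η - n := by
    have := zpow_eq_zpow_iff_modEq.1 hη
    rw [how, Int.modEq_iff_dvd] at this
    exact this
  -- `η` is prime to `p`
  have hη0 : ¬ (p : ℤ) ∣ η := by
    intro h0
    refine hvΦ ?_
    have hdn : (p : ℤ) ∣ n := by rw [hn]; exact dvd_mul_of_dvd_left h0 h
    have hτv : τ v ∈ Φ := by
      rw [hkey]
      refine Φ.mul_mem ((QuotientGroup.eq_one_iff _).1 ?_) hq1
      obtain ⟨m, hm⟩ := hdn
      show QuotientGroup.mk' Φ (v ^ n) = 1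
      rw [map_zpow, hm, zpow_mul, zpow_natCast, hV, one_zpow]
    obtain ⟨m, hm, hmv⟩ := (hΦchar τ hτA).ge hτv
    exact τ.injective hmv ▸ hm
  obtain ⟨a, ha⟩ := hd
  obtain ⟨b, hb⟩ := hh
  have h2 : (p : ℤ) ∣ η := ⟨2 * a + η * b, by rw [hn] at ha; linear_combination 2 * ha + η * hb⟩
  exact hη0 h2

end Cfsg.Agent.H73.Resistant
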