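import Mathlib
import Cfsg.Agent.H73.Resistant.Basic
import Cfsg.Agent.PGroup.ClassTwo
import Cfsg.Agent.FusionSys.Centric

/-! Rank two groups of the first type: central products of a cyclic group and `p ^ (1 + 2)`. -/

set_option autoImplicit false
set_option linter.style.haveILetI false
set_option linter.unusedSectionVars false

open scoped commutatorElement

namespace Cfsg.Agent.H73.Resistant

open Subgroup (zpowers mem_zpowers zpowers_le)

variable {G : Type*} [Group G]

theorem comm_mem_zpowers {x y z ω : G} (hgen : Subgroup.closure ({x, y, z} : Set G) = ⊤)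
    (hxz : x * z = z * x) (hyz : y * z = z * y) (hxy : x⁻¹ * y * x = y * ω)
    (hω : ω ∈ Subgroup.center G) (a b : G) : (a * b) * (b * a)⁻¹ ∈ zpowers ω := by
  haveI : (zpowers ω).Normal := ⟨fun u hu g => by
    have huc : u ∈ Subgroup.center G := (zpowers_le.2 hω) hu
    rwa [Subgroup.mem_center_iff.1 huc g, mul_inv_cancel_right]⟩
  set π := QuotientGroup.mk' (zpowers ω) with hπ
  have hπω : π ω = 1 := (QuotientGroup.eq_one_iff _).2 (mem_zpowers ω)
  have hcxy : Commute (π x) (π y) := by
    have h := congrArg π hxy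
    rw [map_mul, map_mul, map_mul, map_inv, hπω, mul_one] at h
    show π x * π y = π y * π x
    calc π x * π y = π x * ((π x)⁻¹ * π y * π x) := by rw [h]
      _ = π y * π x := by group
  have hcxz : Commute (π x) (π z) := (show Commute x z from hxz).map π
  have hcyz : Commute (π y) (π z) := (show Commute y z from hyz).map π
  have hclos : ∀ u : G, Commute (π u) (π x) → Commute (π u) (π y) → Commute (π u) (π z) →
      ∀ v, Commute (π u) (π v) := by
    intro u h1 h2 h3 v
    have hv : v ∈ Subgroup.closure ({x, y, z} : Set G) := hgen ▸ Subgroup.mem_top v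
    induction hv using Subgroup.closure_induction with
    | mem w hw =>
      rcases hw with rfl | rfl | rfl
      · exact h1
      · exact h2
      · exact h3
    | one => rw [map_one]; exact Commute.one_right _
    | mul v w _ _ ihv ihw => rw [map_mul]; exact ihv.mul_right ihw
    | inv v _ ihv => rw [map_inv]; exact ihv.inv_right
  have hall : ∀ v, Commute (π a) (π v) := by
    refine hclos a (hclos x (Commute.refl _) hcxy hcxz a).symm
      (hclos y hcxy.symm (Commute.refl _) hcyz a).symm
      (hclos z hcxz.symm hcyz.symm (Commute.refl _) a).symm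
  refine (QuotientGroup.eq_one_iff _).1 ?_
  show π (a * b * (b * a)⁻¹) = 1
  rw [map_mul, map_inv, map_mul, map_mul, (hall b).eq, mul_inv_cancel]

theorem exponent_of_typeOne {p : ℕ} [Fact p.Prime] (hp2 : p ≠ 2) [Nontrivial G] {x y z : G}
    (hgen : Subgroup.closure ({x, y, z} : Set G) = ⊤) (hxz : x * z = z * x) (hyz : y * z = z * y)
    (hxy : x⁻¹ * y * x = y * z) (hx : x ^ p = 1) (hy : y ^ p = 1) (hz : z ^ p = 1) :
    Monoid.exponent G = p := by
  have hpp := (Fact.out : p.Prime)
  have hzc : z ∈ Subgroup.center G := Subgroup.mem_center_iff.2 fun g => by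
    have hg : g ∈ Subgroup.closure ({x, y, z} : Set G) := hgen ▸ Subgroup.mem_top g
    have : Commute g z := by
      induction hg using Subgroup.closure_induction with
      | mem w hw =>
        rcases hw with rfl | rfl | rfl
        · exact hxz
        · exact hyz
        · exact Commute.refl _
      | one => exact Commute.one_left _
      | mul v w _ _ ihv ihw => exact ihv.mul_left ihw
      | inv v _ ihv => exact ihv.inv_left
    exact this.eq
  have hpow : ∀ g : G, g ^ p = 1 := by
    intro g
    have hg : g ∈ Subgroup.closure ({x, y, z} : Set G) := hgen ▸ Subgroup.mem_top g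
    induction hg using Subgroup.closure_induction with
    | mem w hw =>
      rcases hw with rfl | rfl | rfl
      · exact hx
      · exact hy
      · exact hz
    | one => exact one_pow p
    | mul v w _ _ ihv ihw =>
      have hmem : ⁅w, v⁆ ∈ zpowers z := by
        have h := comm_mem_zpowers hgen hxz hyz hxy hzc w v
        rwa [mul_inv_rev, ← mul_assoc, ← commutatorElement_def] at h
      obtain ⟨k, hk⟩ := hmem
      obtain ⟨c, hc⟩ := hpp.dvd_choose_self two_ne_zero
        (by have := hpp.two_le; omega : 2 < p)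
      rw [PGroup.mul_pow_of_commutatorElement ((zpowers_le.2 hzc) ⟨k, hk⟩), ihv, ihw, hc, pow_mul,
        ← hk, ← zpow_natCast (z ^ k) p, ← zpow_mul, mul_comm k, zpow_mul, zpow_natCast, hz, one_zpow,
        one_pow, one_mul, one_mul]
    | inv v _ ihv => rw [inv_pow, ihv, inv_one]
  rcases (Nat.dvd_prime hpp).1 (Monoid.exponent_dvd_of_forall_pow_eq_one hpow) with h | h
  · obtain ⟨g, hg⟩ := exists_ne (1 : G)
    exact absurd (by simpa [h] using Monoid.pow_exponent_eq_one g) hg
  · exact h

open Cfsg Cfsg.FusionSystem Cfsg.Agent.FusionSys Cfsg.Agent.FusionAlperin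

variable {Ω : Type*} [Group Ω] {S : Subgroup Ω} [Finite S] {p : ℕ} [Fact p.Prime]

theorem not_essential_of_typeOne (hS : IsPGroup p S) {F : FusionSystem S} {E : Subgroup Ω}
    (hEss : F.IsEssential p E) (hlt : E < S) {e : ℕ} {x y z : S}
    (hgen : Subgroup.closure ({x, y, z} : Set S) = ⊤) (hxz : x * z = z * x) (hyz : y * z = z * y)
    (hxy : x⁻¹ * y * x = y * z ^ (p ^ e * p)) : False := by
  have hES : E ≤ S := hEss.1.1
  haveI : Finite E := finite_of_le ‹_› hES
  have hEp : IsPGroup p E := hS.to_le hES
  have hzc : z ∈ Subgroup.center S := Subgroup.mem_center_iff.2 fun g => by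
    have hg : g ∈ Subgroup.closure ({x, y, z} : Set S) := hgen ▸ Subgroup.mem_top g
    have : Commute g z := by
      induction hg using Subgroup.closure_induction with
      | mem w hw =>
        rcases hw with rfl | rfl | rfl
        · exact hxz
        · exact hyz
        · exact Commute.refl _
      | one => exact Commute.one_left _
      | mul v w _ _ ihv ihw => exact ihv.mul_left ihw
      | inv v _ ihv => exact ihv.inv_left
    exact this.eq
  have hzE : (z : Ω) ∈ E := centralizerIn_self_centric hEss.1 ⟨z.2, Subgroup.mem_centralizer_iff.2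
    fun u hu => congrArg Subtype.val (Subgroup.mem_center_iff.1 hzc ⟨u, hES hu⟩)⟩
  set W : E := (⟨(z : Ω), hzE⟩ : E) ^ (p ^ e * p) with hW
  have hWΦ : W ∈ frattini E := by
    rw [hW, pow_mul]; exact PGroup.pow_mem_frattini hEp _
  obtain ⟨g, hgN, hgE⟩ := SetLike.exists_of_lt (lt_normalizerIn_of_lt hS hlt)
  refine hgE (mem_of_stab hEp hEss.1 (noOuterPNormal_of_essential hEss) (le_refl (frattini E)) le_rfl
    (fun α _ => map_frattini_eq α) (fun α _ => map_frattini_eq α) hgN
    (mem_stab.2 ⟨fun u => ?_, fun u _ => ?_⟩))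
  all_goals
    obtain ⟨k, hk⟩ := comm_mem_zpowers hgen hxz hyz hxy (pow_mem hzc _) (⟨g, hgN.1⟩ : S) ⟨u, hES u.2⟩
    have hk' : ((z : Ω) ^ (p ^ e * p)) ^ k = g * u * (u * g)⁻¹ := congrArg Subtype.val hk
    have hcu : Commute (u : Ω) (z : Ω) :=
      congrArg Subtype.val (Subgroup.mem_center_iff.1 hzc ⟨u, hES u.2⟩)
    have hcm : Commute (u : Ω) (((z : Ω) ^ (p ^ e * p)) ^ k) := (hcu.pow_right _).zpow_right k
    have heq : u⁻¹ * E.normalizerMonoidHom ⟨g, hgN.2⟩ u = W ^ k := Subtype.ext (by
      rw [Subgroup.coe_mul, Subgroup.coe_inv, Subgroup.coe_zpow, hW, Subgroup.coe_pow]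
      show (u : Ω)⁻¹ * (g * u * g⁻¹) = ((z : Ω) ^ (p ^ e * p)) ^ k
      rw [show (u : Ω)⁻¹ * (g * u * g⁻¹) = (u : Ω)⁻¹ * (g * u * (u * g)⁻¹) * u by group, ← hk',
        hcm.inv_mul_cancel])
    rw [heq]
    exact zpow_mem hWΦ k

end Cfsg.Agent.H73.Resistant
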