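import Mathlib
import Cfsg.Agent.H73.Resistant.Torus

/-! The group generated by `x, y, z` with `y z = z y`, `y ^ x = y z ^ t`, `z ^ x = y z`. -/

set_option autoImplicit false
set_option linter.style.haveILetI false
set_option linter.unusedSectionVars false

namespace Cfsg.Agent.H73.Resistant

open Subgroup (zpowers mem_zpowers zpowers_le)

variable {Ω : Type*} [Group Ω]

/-- The data of a rank two group of the second type. -/
structure TypeTwo (p : ℕ) (S : Subgroup Ω) (m : ℕ) (s : ℤ) (x y z : Ω) : Prop where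
  hm : 2 ≤ m
  hs : ¬ (p : ℤ) ∣ s
  hgen : Subgroup.closure ({x, y, z} : Set Ω) = S
  hcard : Nat.card S = p ^ (m + 2)
  hx : x ^ p = 1
  hy : y ^ p = 1
  hz : z ^ p ^ m = 1
  hyz : Commute y z
  hxy : x⁻¹ * y * x = y * z ^ (s * (p : ℤ) ^ (m - 1))
  hxz : x⁻¹ * z * x = y * z

/-- The abelian subgroup of index `p`. -/
def planeA (y z : Ω) : Subgroup Ω := zpowers y ⊔ zpowers z

theorem mem_planeA {y z : Ω} (h : Commute y z) {g : Ω} :
    g ∈ planeA y z ↔ ∃ j k : ℤ, g = y ^ j * z ^ k := by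
  constructor
  · intro hg
    have hle : zpowers y ≤ Subgroup.normalizer (zpowers z : Set Ω) := by
      rw [zpowers_le]
      refine Subgroup.centralizer_le_normalizer _ (Subgroup.mem_centralizer_iff.2 ?_)
      rintro _ ⟨k, rfl⟩
      exact (h.zpow_right k).eq.symm
    rw [planeA, ← SetLike.mem_coe, Subgroup.coe_mul_of_left_le_normalizer_right _ _ hle] at hg
    obtain ⟨_, ⟨j, rfl⟩, _, ⟨k, rfl⟩, rfl⟩ := hg
    exact ⟨j, k, rfl⟩
  · rintro ⟨j, k, rfl⟩
    exact mul_mem (Subgroup.mem_sup_left ⟨j, rfl⟩) (Subgroup.mem_sup_right ⟨k, rfl⟩)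

namespace TypeTwo

variable {S : Subgroup Ω} {p m : ℕ} {s : ℤ} {x y z : Ω}

section
variable (T : TypeTwo p S m s x y z)
include T

theorem x_mem : x ∈ S := T.hgen ▸ Subgroup.subset_closure (by simp)
theorem y_mem : y ∈ S := T.hgen ▸ Subgroup.subset_closure (by simp)
theorem z_mem : z ∈ S := T.hgen ▸ Subgroup.subset_closure (by simp)

theorem dvd_q : (p : ℤ) ∣ (p : ℤ) ^ (m - 1) := dvd_pow_self _ (by have := T.hm; omega)

theorem dvd_t : (p : ℤ) ∣ s * (p : ℤ) ^ (m - 1) := T.dvd_q.mul_left s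

theorem q_mul : (p : ℤ) ^ (m - 1) * p = (p : ℤ) ^ m := by
  rw [← pow_succ, Nat.sub_add_cancel (by have := T.hm; omega)]

theorem ypow {j : ℤ} (h : (p : ℤ) ∣ j) : y ^ j = 1 := by
  obtain ⟨k, rfl⟩ := h
  rw [zpow_mul, zpow_natCast, T.hy, one_zpow]

theorem xpow {j : ℤ} (h : (p : ℤ) ∣ j) : x ^ j = 1 := by
  obtain ⟨k, rfl⟩ := h
  rw [zpow_mul, zpow_natCast, T.hx, one_zpow]

theorem zpow_one_of_dvd {j : ℤ} (h : (p : ℤ) ^ m ∣ j) : z ^ j = 1 := by
  obtain ⟨k, rfl⟩ := h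
  rw [zpow_mul, ← Nat.cast_pow, zpow_natCast, T.hz, one_zpow]

theorem zpow_congr {a b : ℤ} (h : (p : ℤ) ^ m ∣ a - b) : z ^ a = z ^ b := by
  rw [show a = (a - b) + b by ring, zpow_add, T.zpow_one_of_dvd h, one_mul]

theorem a_mul (j k j' k' : ℤ) :
    (y ^ j * z ^ k) * (y ^ j' * z ^ k') = y ^ (j + j') * z ^ (k + k') := by
  rw [zpow_add, zpow_add, mul_assoc, ← mul_assoc (z ^ k), ← (T.hyz.zpow_zpow j' k).eq]
  group

theorem conjX (j k : ℤ) : x⁻¹ * (y ^ j * z ^ k) * x =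
    y ^ (j + k) * z ^ (k + s * (p : ℤ) ^ (m - 1) * j) := by
  set t := s * (p : ℤ) ^ (m - 1) with ht
  have h1 : x⁻¹ * y ^ j * x = (y ^ (1 : ℤ) * z ^ t) ^ j := by
    rw [zpow_one, ← T.hxy]
    simpa using (conj_zpow (i := j) (a := x⁻¹) (b := y)).symm
  have h2 : x⁻¹ * z ^ k * x = (y ^ (1 : ℤ) * z ^ (1 : ℤ)) ^ k := by
    rw [zpow_one, zpow_one, ← T.hxz]
    simpa using (conj_zpow (i := k) (a := x⁻¹) (b := z)).symm
  rw [show x⁻¹ * (y ^ j * z ^ k) * x = x⁻¹ * y ^ j * x * (x⁻¹ * z ^ k * x) by group, h1, h2,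
    (T.hyz.zpow_zpow 1 t).mul_zpow, (T.hyz.zpow_zpow 1 1).mul_zpow, ← zpow_mul, ← zpow_mul, ← zpow_mul,
    ← zpow_mul, T.a_mul, one_mul, one_mul, add_comm (t * j)]

theorem zk_comm_x {k : ℤ} (hk : (p : ℤ) ∣ k) : Commute x (z ^ k) := by
  have h := T.conjX 0 k
  rw [zpow_zero, one_mul, zero_add, mul_zero, add_zero, T.ypow hk, one_mul] at h
  calc x * z ^ k = x * (x⁻¹ * z ^ k * x) := by rw [h]
    _ = z ^ k * x := by group

theorem zk_comm {k : ℤ} (hk : (p : ℤ) ∣ k) {g : Ω} (hg : g ∈ S) : Commute g (z ^ k) := by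
  rw [← T.hgen] at hg
  induction hg using Subgroup.closure_induction with
  | mem a ha =>
    rcases ha with rfl | rfl | rfl
    · exact T.zk_comm_x hk
    · exact T.hyz.zpow_right k
    · exact (Commute.refl _).zpow_right k
  | one => exact Commute.one_left _
  | mul a b _ _ iha ihb => exact iha.mul_left ihb
  | inv a _ iha => exact iha.inv_left

theorem yx (i j : ℤ) : y ^ j * x ^ i =
    x ^ i * y ^ j * z ^ (s * (p : ℤ) ^ (m - 1) * i * j) := by
  set t := s * (p : ℤ) ^ (m - 1) with ht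
  have hc : Commute x (z ^ (-(t * j))) := T.zk_comm_x (dvd_neg.2 (T.dvd_t.mul_right j))
  have h := T.conjX j 0
  rw [zpow_zero, mul_one, add_zero, zero_add] at h
  have hyx : y ^ j * x = x * y ^ j * z ^ (t * j) := by
    rw [mul_assoc x, ← h]; group
  have h1 : (y ^ j)⁻¹ * x * y ^ j = x * z ^ (-(t * j)) := by
    calc (y ^ j)⁻¹ * x * y ^ j = (y ^ j)⁻¹ * (x * y ^ j * z ^ (t * j)) * z ^ (-(t * j)) := by group
      _ = _ := by rw [← hyx]; group
  have h2 : (y ^ j)⁻¹ * x ^ i * y ^ j = x ^ i * z ^ (-(t * i * j)) := by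
    rw [show -(t * i * j) = -(t * j) * i by ring, zpow_mul, ← hc.mul_zpow, ← h1]
    simpa using (conj_zpow (i := i) (a := (y ^ j)⁻¹) (b := x)).symm
  calc y ^ j * x ^ i = y ^ j * (x ^ i * z ^ (-(t * i * j))) * z ^ (t * i * j) := by group
    _ = _ := by rw [← h2]; group

theorem el_mul {i j k i' j' k' : ℤ} (hk : (p : ℤ) ∣ k) (_hk' : (p : ℤ) ∣ k') :
    x ^ i * y ^ j * z ^ k * (x ^ i' * y ^ j' * z ^ k') =
      x ^ (i + i') * y ^ (j + j') * z ^ (k + k' + s * (p : ℤ) ^ (m - 1) * i' * j) := by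
  set t := s * (p : ℤ) ^ (m - 1) with ht
  have hp1 : Commute (z ^ k) (x ^ i') := (T.zk_comm_x hk).symm.zpow_right i'
  calc x ^ i * y ^ j * z ^ k * (x ^ i' * y ^ j' * z ^ k')
      = x ^ i * y ^ j * (z ^ k * x ^ i') * (y ^ j' * z ^ k') := by group
    _ = x ^ i * (y ^ j * x ^ i') * z ^ k * (y ^ j' * z ^ k') := by rw [hp1.eq]; group
    _ = x ^ (i + i') * ((y ^ j * z ^ (t * i' * j + k)) * (y ^ j' * z ^ k')) := by
      rw [T.yx, ← ht]; group
    _ = _ := by rw [T.a_mul, ← mul_assoc]; congr 1; congr 1; ring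

theorem x_normalizes [Finite S] : x ∈ Subgroup.normalizer (planeA y z : Set Ω) := by
  have hle : planeA y z ≤ S := sup_le (zpowers_le.2 T.y_mem) (zpowers_le.2 T.z_mem)
  haveI : Finite (planeA y z) :=
    Finite.of_injective (Subgroup.inclusion hle) (Subgroup.inclusion_injective hle)
  have hinv : x⁻¹ ∈ Subgroup.normalizer (planeA y z : Set Ω) := by
    refine Subgroup.mem_normalizer_iff.2 fun g => ?_
    have hmap : (planeA y z).map (MulAut.conj x⁻¹).toMonoidHom = planeA y z := by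
      refine Subgroup.eq_of_le_of_card_ge ?_
        (Subgroup.card_map_of_injective (MulAut.conj x⁻¹).injective).ge
      rintro _ ⟨a, ha, rfl⟩
      obtain ⟨j, k, rfl⟩ := (mem_planeA T.hyz).1 ha
      exact (mem_planeA T.hyz).2 ⟨_, _, by simpa using T.conjX j k⟩
    constructor
    · exact fun hg => hmap.le ⟨g, hg, rfl⟩
    · intro hg
      obtain ⟨a, ha, hag⟩ := hmap.ge hg
      rwa [← (MulAut.conj x⁻¹).injective (hag : MulAut.conj x⁻¹ a = MulAut.conj x⁻¹ g)]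
  simpa using Subgroup.inv_mem _ hinv

theorem normalizes [Finite S] : S ≤ Subgroup.normalizer (planeA y z : Set Ω) := by
  conv_lhs => rw [← T.hgen]
  refine (Subgroup.closure_le _).2 ?_
  rintro g (rfl | rfl | rfl)
  · exact T.x_normalizes
  · exact Subgroup.le_normalizer (Subgroup.mem_sup_left (mem_zpowers _) : g ∈ planeA g z)
  · exact Subgroup.le_normalizer (Subgroup.mem_sup_right (mem_zpowers _) : g ∈ planeA y g)

theorem conj_planeA [Finite S] {g a : Ω} (hg : g ∈ S) (ha : a ∈ planeA y z) :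
    g⁻¹ * a * g ∈ planeA y z := by
  have := (Subgroup.mem_normalizer_iff.1 (Subgroup.inv_mem _ (T.normalizes hg)) a).1 ha
  rwa [inv_inv] at this

theorem cover [Finite S] {g : Ω} (hg : g ∈ S) : ∃ i j k : ℤ, g = x ^ i * y ^ j * z ^ k := by
  have hle : S ≤ zpowers x ⊔ planeA y z := by
    conv_lhs => rw [← T.hgen]
    refine (Subgroup.closure_le _).2 ?_
    rintro g (rfl | rfl | rfl)
    · exact Subgroup.mem_sup_left (mem_zpowers _)
    · exact Subgroup.mem_sup_right (Subgroup.mem_sup_left (mem_zpowers _) : g ∈ planeA g z)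
    · exact Subgroup.mem_sup_right (Subgroup.mem_sup_right (mem_zpowers _) : g ∈ planeA y g)
  have hg' := hle hg
  rw [← SetLike.mem_coe, Subgroup.coe_mul_of_left_le_normalizer_right _ _
    (zpowers_le.2 T.x_normalizes)] at hg'
  obtain ⟨_, ⟨i, rfl⟩, a, ha, rfl⟩ := hg'
  obtain ⟨j, k, rfl⟩ := (mem_planeA T.hyz).1 ha
  exact ⟨i, j, k, (mul_assoc _ _ _).symm⟩

theorem el_inj [Fact p.Prime] [Finite S] {i j k i' j' k' : ℤ}
    (h : x ^ i * y ^ j * z ^ k = x ^ i' * y ^ j' * z ^ k') :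
    (p : ℤ) ∣ i - i' ∧ (p : ℤ) ∣ j - j' ∧ (p : ℤ) ^ m ∣ k - k' := by
  haveI : NeZero p := ⟨(Fact.out : p.Prime).ne_zero⟩
  have hmem : ∀ a b c : ℤ, x ^ a * y ^ b * z ^ c ∈ S := fun a b c =>
    mul_mem (mul_mem (zpow_mem T.x_mem a) (zpow_mem T.y_mem b)) (zpow_mem T.z_mem c)
  let f : ZMod p × ZMod p × ZMod (p ^ m) → S := fun w =>
    ⟨x ^ (w.1.val : ℤ) * y ^ (w.2.1.val : ℤ) * z ^ (w.2.2.val : ℤ), hmem _ _ _⟩
  have hf : ∀ a b c : ℤ, (f (a, b, c) : Ω) = x ^ a * y ^ b * z ^ c := by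
    intro a b c
    show x ^ ((a : ZMod p).val : ℤ) * y ^ ((b : ZMod p).val : ℤ) * z ^ ((c : ZMod (p ^ m)).val : ℤ) = _
    have hd : ∀ (n : ℕ) [NeZero n] (a : ℤ), (n : ℤ) ∣ ((a : ZMod n).val : ℤ) - a := fun n _ a => by
      rw [← ZMod.intCast_zmod_eq_zero_iff_dvd]; simp
    rw [zpow_eq_of_dvd T.hx (hd p a), zpow_eq_of_dvd T.hy (hd p b),
      T.zpow_congr (by simpa using hd (p ^ m) c)]
  have hbij : Function.Bijective f := by
    refine (Nat.bijective_iff_surjective_and_card f).2 ⟨fun g => ?_, ?_⟩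
    · obtain ⟨a, b, c, habc⟩ := T.cover g.2
      exact ⟨((a : ZMod p), (b : ZMod p), (c : ZMod (p ^ m))), Subtype.ext (by rw [hf, habc])⟩
    · rw [Nat.card_prod, Nat.card_prod, Nat.card_zmod, Nat.card_zmod, T.hcard, pow_add]; ring
  have he := hbij.1 (Subtype.ext ((hf i j k).trans (h.trans (hf i' j' k').symm)))
  simp only [Prod.mk.injEq] at he
  refine ⟨?_, ?_, ?_⟩
  · rw [← ZMod.intCast_zmod_eq_zero_iff_dvd, Int.cast_sub, he.1, sub_self]
  · rw [← ZMod.intCast_zmod_eq_zero_iff_dvd, Int.cast_sub, he.2.1, sub_self]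
  · rw [← Nat.cast_pow, ← ZMod.intCast_zmod_eq_zero_iff_dvd, Int.cast_sub, he.2.2, sub_self]

theorem mem_planeA_iff [Fact p.Prime] [Finite S] {i j k : ℤ} :
    x ^ i * y ^ j * z ^ k ∈ planeA y z ↔ (p : ℤ) ∣ i := by
  constructor
  · intro h
    obtain ⟨j', k', h'⟩ := (mem_planeA T.hyz).1 h
    have := (T.el_inj (i := i) (j := j) (k := k) (i' := 0) (j' := j') (k' := k') (by rw [zpow_zero, one_mul]; exact h')).1
    simpa using this
  · intro h
    rw [T.xpow h, one_mul]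
    exact (mem_planeA T.hyz).2 ⟨j, k, rfl⟩

theorem pow_formula (j k : ℤ) (n : ℕ) : (x * (y ^ j * z ^ k)) ^ n =
    x ^ (n : ℤ) * (y ^ ((n : ℤ) * j + (n.choose 2 : ℤ) * k) *
      z ^ ((n : ℤ) * k + s * (p : ℤ) ^ (m - 1) * ((n.choose 2 : ℤ) * j + (n.choose 3 : ℤ) * k))) := by
  induction n with
  | zero => simp
  | succ n ih =>
    set t := s * (p : ℤ) ^ (m - 1) with ht
    set J := (n : ℤ) * j + (n.choose 2 : ℤ) * k with hJ
    set K := (n : ℤ) * k + t * ((n.choose 2 : ℤ) * j + (n.choose 3 : ℤ) * k) with hK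
    have hstep : x ^ (n : ℤ) * (y ^ J * z ^ K) * (x * (y ^ j * z ^ k)) =
        x ^ ((n : ℤ) + 1) * ((x⁻¹ * (y ^ J * z ^ K) * x) * (y ^ j * z ^ k)) := by group
    rw [pow_succ, ih, hstep, T.conjX, T.a_mul, Nat.cast_succ]
    congr 2
    · rw [show J + K + j = ((n : ℤ) + 1) * j + (((n + 1).choose 2 : ℕ) : ℤ) * k +
          t * ((n.choose 2 : ℤ) * j + (n.choose 3 : ℤ) * k) by
          rw [hJ, hK, Nat.choose_succ_succ' n 1, Nat.choose_one_right]; push_cast; ring]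
      rw [zpow_add, T.ypow (T.dvd_t.mul_right _), mul_one]
    · rw [hK, hJ, ← ht, Nat.choose_succ_succ' n 1, Nat.choose_succ_succ' n 2, Nat.choose_one_right]
      push_cast; ring_nf

theorem pow_p [Fact p.Prime] (hp : 5 ≤ p) (j k : ℤ) :
    (x * (y ^ j * z ^ k)) ^ p = z ^ ((p : ℤ) * k) := by
  rw [T.pow_formula, T.xpow (dvd_refl _), one_mul]
  obtain ⟨a, ha⟩ := (Fact.out : p.Prime).dvd_choose_self two_ne_zero (by omega : 2 < p)
  obtain ⟨b, hb⟩ := (Fact.out : p.Prime).dvd_choose_self three_ne_zero (by omega : 3 < p)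
  rw [ha, hb, T.ypow (Dvd.intro (j + (a : ℤ) * k) (by push_cast; ring)), one_mul]
  refine T.zpow_congr ?_
  rw [← T.q_mul]
  exact ⟨s * ((a : ℤ) * j + (b : ℤ) * k), by push_cast; ring⟩

theorem pow_coord [Finite S] (i j k : ℤ) (n : ℕ) :
    ∃ j' k' : ℤ, (x ^ i * y ^ j * z ^ k) ^ n = x ^ (i * n) * y ^ j' * z ^ k' := by
  induction n with
  | zero => exact ⟨0, 0, by simp⟩
  | succ n ih =>
    obtain ⟨j', k', h⟩ := ih
    obtain ⟨a, b, hab⟩ := (mem_planeA T.hyz).1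
      (mul_mem (T.conj_planeA (g := x ^ i) (zpow_mem T.x_mem i)
        ((mem_planeA T.hyz).2 ⟨j', k', rfl⟩)) ((mem_planeA T.hyz).2 ⟨j, k, rfl⟩))
    refine ⟨a, b, ?_⟩
    rw [pow_succ, h, mul_assoc (x ^ (i * ((n + 1 : ℕ) : ℤ))), ← hab]
    push_cast
    group

theorem shift [Fact p.Prime] (hp : 5 ≤ p) (a : ℤ) : TypeTwo p S m s (x * y ^ a) y z where
  hm := T.hm
  hs := T.hs
  hgen := by
    rw [← T.hgen]
    apply le_antisymm <;> rw [Subgroup.closure_le]
    · rintro g (rfl | rfl | rfl)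
      · exact mul_mem (Subgroup.subset_closure (by simp)) (zpow_mem (Subgroup.subset_closure (by simp)) a)
      · exact Subgroup.subset_closure (by simp)
      · exact Subgroup.subset_closure (by simp)
    · rintro g (rfl | rfl | rfl)
      · have h1 : g * y ^ a ∈ Subgroup.closure ({g * y ^ a, y, z} : Set Ω) :=
          Subgroup.subset_closure (by simp)
        have h2 : y ∈ Subgroup.closure ({g * y ^ a, y, z} : Set Ω) :=
          Subgroup.subset_closure (by simp)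
        simpa using mul_mem h1 (inv_mem (zpow_mem h2 a))
      · exact Subgroup.subset_closure (by simp)
      · exact Subgroup.subset_closure (by simp)
  hcard := T.hcard
  hx := by
    have h := T.pow_p hp a 0
    rwa [zpow_zero, mul_one, mul_zero, zpow_zero] at h
  hy := T.hy
  hz := T.hz
  hyz := T.hyz
  hxy := by
    rw [show (x * y ^ a)⁻¹ * y * (x * y ^ a) = (y ^ a)⁻¹ * (x⁻¹ * y * x) * y ^ a by group, T.hxy]
    exact (((Commute.refl y).mul_right (T.hyz.zpow_right _)).zpow_left a).inv_mul_cancel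
  hxz := by
    rw [show (x * y ^ a)⁻¹ * z * (x * y ^ a) = (y ^ a)⁻¹ * (x⁻¹ * z * x) * y ^ a by group,
      T.hxz]
    exact (((Commute.refl y).mul_right T.hyz).zpow_left a).inv_mul_cancel

end

end TypeTwo

end Cfsg.Agent.H73.Resistant

namespace Cfsg.Agent.H73.Resistant.TypeTwo

variable {Ω : Type*} [Group Ω] {S : Subgroup Ω} {p m : ℕ} {s : ℤ} {x y z : Ω}

/-- The maximal subgroup `⟨x, y, z ^ p⟩`. -/
def maxR (T : TypeTwo p S m s x y z) : Subgroup Ω where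
  carrier := {g | ∃ i j k : ℤ, (p : ℤ) ∣ k ∧ g = x ^ i * y ^ j * z ^ k}
  one_mem' := ⟨0, 0, 0, dvd_zero _, by simp⟩
  mul_mem' := by
    rintro _ _ ⟨i, j, k, hk, rfl⟩ ⟨i', j', k', hk', rfl⟩
    exact ⟨_, _, _, dvd_add (dvd_add hk hk') ((T.dvd_t.mul_right _).mul_right _), T.el_mul hk hk'⟩
  inv_mem' := by
    rintro _ ⟨i, j, k, hk, rfl⟩
    have hd : (p : ℤ) ∣ -k + s * (p : ℤ) ^ (m - 1) * i * j :=
      dvd_add (dvd_neg.2 hk) ((T.dvd_t.mul_right _).mul_right _)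
    refine ⟨-i, -j, _, hd, ?_⟩
    refine inv_eq_of_mul_eq_one_right ?_
    rw [T.el_mul hk hd, add_neg_cancel, add_neg_cancel, zpow_zero, zpow_zero, one_mul, one_mul,
      show k + (-k + s * (p : ℤ) ^ (m - 1) * i * j) + s * (p : ℤ) ^ (m - 1) * -i * j = 0 by ring,
      zpow_zero]

theorem mem_maxR (T : TypeTwo p S m s x y z) {g : Ω} :
    g ∈ T.maxR ↔ ∃ i j k : ℤ, (p : ℤ) ∣ k ∧ g = x ^ i * y ^ j * z ^ k := Iff.rfl

end Cfsg.Agent.H73.Resistant.TypeTwo
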