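import Mathlib
import Cfsg.Prelude.Def_OddOrderLocal
import Cfsg.Agent.H73.Resistant.Twist
import Cfsg.Agent.H73.Resistant.TypeTwoBasic
import Cfsg.Agent.FusionSys.Essential
import Cfsg.Agent.FusionBatch.Basic

/-! Rank two groups of the second type, `p ≥ 5`, carry no essential subgroups. -/

set_option autoImplicit false
set_option linter.style.haveILetI false
set_option linter.unusedSectionVars false

namespace Cfsg.Agent.H73.Resistant

open Subgroup (zpowers mem_zpowers zpowers_le)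
open Cfsg Cfsg.FusionSystem Cfsg.Agent.FusionSys Cfsg.Agent.FusionAlperin

theorem card_of_cover {P : Type*} [Group P] [Finite P] {p : ℕ} [Fact p.Prime] {K H : Subgroup P}
    [K.Normal] (hKH : K ≤ H) {w : P} (hw : w ∈ H) (hwK : w ∉ K) (hwp : w ^ p ∈ K)
    (hcov : ∀ h ∈ H, ∃ k : ℤ, (w ^ k)⁻¹ * h ∈ K) : Nat.card H = p * Nat.card K := by
  set π := QuotientGroup.mk' K with hπ
  have hmap : H.map π = zpowers (π w) := by
    refine le_antisymm ?_ (zpowers_le.2 (Subgroup.mem_map_of_mem π hw))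
    rintro _ ⟨h, hh, rfl⟩
    obtain ⟨k, hk⟩ := hcov h hh
    exact ⟨k, (map_zpow π w k).symm.trans (QuotientGroup.eq.2 hk)⟩
  have h2 := Cores.card_comap_mk_eq K (H.map π)
  rw [Subgroup.comap_map_eq_self (by rwa [QuotientGroup.ker_mk']), hmap, Nat.card_zpowers,
    orderOf_eq_prime (p := p) ((map_pow π w p).symm.trans ((QuotientGroup.eq_one_iff _).2 hwp))
      (fun h => hwK ((QuotientGroup.eq_one_iff w).1 h))] at h2
  rw [h2, mul_comm]

variable {Ω : Type*} [Group Ω] {S : Subgroup Ω} [Finite S] {p m : ℕ} [Fact p.Prime] {s : ℤ}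
  {x y z : Ω}

/-- The conjugation action of `g ∈ N_S(E)` on `E`. -/
theorem coe_conjAut {E : Subgroup Ω} {g : Ω} (hg : g ∈ Subgroup.normalizer (E : Set Ω)) (e : E) :
    (E.normalizerMonoidHom ⟨g, hg⟩ e : Ω) = g * e * g⁻¹ := rfl

/-- Membership in a normalizer, for finite subgroups. -/
theorem mem_normalizer_of_conj {E : Subgroup Ω} [Finite E] {g : Ω}
    (h : ∀ e ∈ E, g * e * g⁻¹ ∈ E) : g ∈ Subgroup.normalizer (E : Set Ω) := by
  have hmap : E.map (MulAut.conj g).toMonoidHom = E := by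
    refine Subgroup.eq_of_le_of_card_ge ?_ (Subgroup.card_map_of_injective (MulAut.conj g).injective).ge
    rintro _ ⟨e, he, rfl⟩
    exact h e he
  refine Subgroup.mem_normalizer_iff.2 fun e => ⟨h e, fun he => ?_⟩
  obtain ⟨f, hf, hfe⟩ := hmap.ge he
  rwa [← (MulAut.conj g).injective (hfe : MulAut.conj g f = MulAut.conj g e)]

/-- The maximal subgroup `⟨x, y, z ^ p⟩` has no automorphism of order two modulo its plane. -/
theorem TypeTwo.finish (T : TypeTwo p S m s x y z) (hS : IsPGroup p S) (hp : 5 ≤ p)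
    {F : FusionSystem S} (hF : F.IsSaturated p) {E : Subgroup Ω}
    (hE : ∀ g, g ∈ E ↔ ∃ i j k : ℤ, (p : ℤ) ∣ k ∧ g = x ^ i * y ^ j * z ^ k) (hc : F.IsCentric E)
    (hτ : (∃ φ ∈ F.autGroup E, ∃ d ∈ (planeA y z).subgroupOf E, φ d ∉ (planeA y z).subgroupOf E) ∨
      ∃ τ ∈ F.autGroup E, (∀ d ∈ (planeA y z).subgroupOf E, τ d ∈ (planeA y z).subgroupOf E) ∧
        ∀ e, (e ^ 2)⁻¹ * τ e ∈ (planeA y z).subgroupOf E) : False := by
  classical
  have hpp := (Fact.out : p.Prime)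
  have hES : E ≤ S := hc.1
  haveI : Finite E := finite_of_le ‹_› hES
  set q : ℤ := (p : ℤ) ^ (m - 1) with hqd
  have hxE : x ∈ E := (hE x).2 ⟨1, 0, 0, dvd_zero _, by simp⟩
  have hyE : y ∈ E := (hE y).2 ⟨0, 1, 0, dvd_zero _, by simp⟩
  have hzkE : ∀ k : ℤ, (p : ℤ) ∣ k → z ^ k ∈ E := fun k hk => (hE _).2 ⟨0, 0, k, hk, by simp⟩
  have hzN : ∀ e ∈ E, z * e * z⁻¹ ∈ E := by
    intro e he
    obtain ⟨i, j, k, hk, rfl⟩ := (hE e).1 he
    have h1 : z * x * z⁻¹ = x * y := by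
      rw [show z * x * z⁻¹ = x * (x⁻¹ * z * x) * z⁻¹ by group, T.hxz]; group
    have h2 : z * y * z⁻¹ = y := by rw [← T.hyz.eq, mul_inv_cancel_right]
    rw [show z * (x ^ i * y ^ j * z ^ k) * z⁻¹ = z * x ^ i * z⁻¹ * (z * y ^ j * z⁻¹) * z ^ k by group,
      ← conj_zpow, ← conj_zpow, h1, h2]
    exact mul_mem (mul_mem (zpow_mem (mul_mem hxE hyE) i) (zpow_mem hyE j)) (hzkE k hk)
  have hzn : z ∈ normalizerIn S E := ⟨T.z_mem, mem_normalizer_of_conj hzN⟩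
  have hNE : normalizerIn S E = S := by
    refine le_antisymm (normalizerIn_le E) ?_
    conv_lhs => rw [← T.hgen]
    refine (Subgroup.closure_le _).2 ?_
    rintro g (rfl | rfl | rfl)
    · exact le_normalizerIn hES hxE
    · exact le_normalizerIn hES hyE
    · exact hzn
  have hfn : F.IsFullyNormalized E := ⟨hES, fun Q _ => by
    rw [hNE]; exact Subgroup.card_le_of_le (normalizerIn_le Q)⟩
  have hrec := saturated_receptive_of_fullyNormalized hS hF hfn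
  -- the centre
  set X : E := ⟨x, hxE⟩ with hX
  set Y : E := ⟨y, hyE⟩ with hY
  set D := (planeA y z).subgroupOf E with hD
  set M := Subgroup.center E with hM
  have hmemM : ∀ {e : E}, e ∈ M ↔ ∃ k : ℤ, (p : ℤ) ∣ k ∧ (e : Ω) = z ^ k := by
    intro e
    constructor
    · intro he
      obtain ⟨i, j, k, hk, hek⟩ := (hE (e : Ω)).1 e.2
      have hy' : x ^ (0 : ℤ) * y ^ (1 : ℤ) * z ^ (0 : ℤ) * e = e * (x ^ (0 : ℤ) * y ^ (1 : ℤ) * z ^ (0 : ℤ)) := by
        simpa using congrArg Subtype.val (Subgroup.mem_center_iff.1 he Y)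
      have hx' : x ^ (1 : ℤ) * y ^ (0 : ℤ) * z ^ (0 : ℤ) * e = e * (x ^ (1 : ℤ) * y ^ (0 : ℤ) * z ^ (0 : ℤ)) := by
        simpa using congrArg Subtype.val (Subgroup.mem_center_iff.1 he X)
      rw [hek, T.el_mul (dvd_zero _) hk, T.el_mul hk (dvd_zero _)] at hy' hx'
      obtain ⟨-, -, hi⟩ := T.el_inj hy'
      obtain ⟨-, -, hj⟩ := T.el_inj hx'
      rw [← T.q_mul] at hi hj
      have hq0 : q ≠ 0 := pow_ne_zero _ (by exact_mod_cast hpp.ne_zero)
      have hi' : (p : ℤ) ∣ s * i := (mul_dvd_mul_iff_left hq0).1 (by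
        refine Dvd.dvd.trans hi ?_
        exact dvd_of_eq (by rw [hqd]; ring))
      have hj' : (p : ℤ) ∣ s * j := (mul_dvd_mul_iff_left hq0).1 (by
        refine Dvd.dvd.trans (dvd_neg.2 hj) ?_
        exact dvd_of_eq (by rw [hqd]; ring))
      refine ⟨k, hk, ?_⟩
      rw [hek, T.xpow (((Nat.prime_iff_prime_int.1 hpp).dvd_or_dvd hi').resolve_left T.hs),
        T.ypow (((Nat.prime_iff_prime_int.1 hpp).dvd_or_dvd hj').resolve_left T.hs), one_mul, one_mul]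
    · rintro ⟨k, hk, hek⟩
      refine Subgroup.mem_center_iff.2 fun g => Subtype.ext ?_
      rw [Subgroup.coe_mul, Subgroup.coe_mul, hek]
      exact (T.zk_comm hk (hES g.2)).eq
  have hmemD : ∀ {e : E}, e ∈ D ↔ ∃ j k : ℤ, (p : ℤ) ∣ k ∧ (e : Ω) = y ^ j * z ^ k := by
    intro e
    constructor
    · intro he
      obtain ⟨i, j, k, hk, hek⟩ := (hE (e : Ω)).1 e.2
      have hi : (p : ℤ) ∣ i := by
        have he' : (e : Ω) ∈ planeA y z := he
        rw [hek] at he'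
        exact T.mem_planeA_iff.1 he'
      exact ⟨j, k, hk, by rw [hek, T.xpow hi, one_mul]⟩
    · rintro ⟨j, k, -, hek⟩
      exact (mem_planeA T.hyz).2 ⟨j, k, hek⟩
  have hMD : M ≤ D := fun e he => by
    obtain ⟨k, hk, hek⟩ := hmemM.1 he
    exact hmemD.2 ⟨0, k, hk, by simpa using hek⟩
  have hcomm : ∀ a b : E, (a * b) * (b * a)⁻¹ ∈ M := by
    intro a b
    obtain ⟨i, j, k, hk, ha⟩ := (hE (a : Ω)).1 a.2
    obtain ⟨i', j', k', hk', hb⟩ := (hE (b : Ω)).1 b.2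
    refine hmemM.2 ⟨s * q * (i' * j - i * j'), (T.dvd_t).mul_right _, ?_⟩
    rw [Subgroup.coe_mul, Subgroup.coe_inv, Subgroup.coe_mul, Subgroup.coe_mul, ha, hb,
      T.el_mul hk hk', T.el_mul hk' hk, add_comm i' i, add_comm j' j]
    have hc : Commute (x ^ (i + i') * y ^ (j + j')) (z ^ (s * q * (i' * j - i * j'))) :=
      T.zk_comm ((T.dvd_t).mul_right _) (mul_mem (zpow_mem T.x_mem _) (zpow_mem T.y_mem _))
    rw [mul_inv_rev, mul_assoc (x ^ (i + i') * y ^ (j + j')), ← mul_assoc (z ^ _) (z ^ _)⁻¹, ← zpow_neg,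
      ← zpow_add, show k + k' + s * q * i' * j + -(k' + k + s * q * i * j') =
        s * q * (i' * j - i * j') by ring, ← mul_assoc, hc.eq, mul_inv_cancel_right]
  have hexp : ∀ a : E, a ^ p ∈ M := by
    intro a
    obtain ⟨i, j, k, hk, ha⟩ := (hE (a : Ω)).1 a.2
    have hak : a = X ^ i * Y ^ j * ⟨z ^ k, hzkE k hk⟩ := Subtype.ext (by simpa using ha)
    have hπ : QuotientGroup.mk' M a = QuotientGroup.mk' M (X ^ i) * QuotientGroup.mk' M (Y ^ j) := by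
      rw [hak, map_mul, show QuotientGroup.mk' M (⟨z ^ k, hzkE k hk⟩ : E) = 1 from
        (QuotientGroup.eq_one_iff _).2 (hmemM.2 ⟨k, hk, rfl⟩), mul_one, map_mul]
    have hcm : Commute (QuotientGroup.mk' M (X ^ i)) (QuotientGroup.mk' M (Y ^ j)) := by
      show _ * _ = _ * _
      rw [← map_mul, ← map_mul, ← mul_inv_eq_one, ← map_inv, ← map_mul]
      exact (QuotientGroup.eq_one_iff _).2 (hcomm _ _)
    refine (QuotientGroup.eq_one_iff _).1 ?_
    show QuotientGroup.mk' M (a ^ p) = 1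
    have hXp : X ^ p = 1 := Subtype.ext T.hx
    have hYp : Y ^ p = 1 := Subtype.ext T.hy
    rw [map_pow, hπ, hcm.mul_pow, ← map_pow, ← map_pow, ← zpow_natCast (X ^ i), ← zpow_natCast (Y ^ j),
      ← zpow_mul, ← zpow_mul, mul_comm i, mul_comm j, zpow_mul, zpow_mul, zpow_natCast, zpow_natCast,
      hXp, hYp, one_zpow, one_zpow, map_one, mul_one]
  have hMchar : ∀ α ∈ F.autGroup E, ∀ u ∈ M, α u ∈ M := fun α _ u hu =>
    Subgroup.mem_center_iff.2 fun g => by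
      obtain ⟨g, rfl⟩ := α.surjective g
      rw [← map_mul, ← map_mul, Subgroup.mem_center_iff.1 hu g]
  set c := E.normalizerMonoidHom ⟨z, hzn.2⟩ with hcd
  have hcA : c ∈ F.autGroup E := conjAut_mem_autGroup hES hzn
  have hcfix : ∀ d ∈ D, c d = d := by
    intro d hd
    obtain ⟨j, k, -, hdk⟩ := hmemD.1 hd
    refine Subtype.ext ?_
    rw [coe_conjAut, hdk, ← mul_assoc, ← (T.hyz.zpow_left j).eq]
    group
  have hc2 : ∀ d ∈ D, d⁻¹ * c d ∈ M := fun d hd => by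
    rw [hcfix d hd, inv_mul_cancel]; exact M.one_mem
  have hc1 : ∀ e, e⁻¹ * c e ∈ D := by
    intro e
    show ((e⁻¹ * c e : E) : Ω) ∈ planeA y z
    rw [Subgroup.coe_mul, Subgroup.coe_inv, coe_conjAut,
      show (e : Ω)⁻¹ * (z * e * z⁻¹) = (e : Ω)⁻¹ * z * e * z⁻¹ by group]
    have hz1 : z ∈ planeA y z := Subgroup.mem_sup_right (mem_zpowers z)
    exact mul_mem (T.conj_planeA (hES e.2) hz1) (inv_mem hz1)
  have hcX : ((X⁻¹ * c X : E) : Ω) = y := by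
    rw [Subgroup.coe_mul, Subgroup.coe_inv, coe_conjAut]
    show x⁻¹ * (z * x * z⁻¹) = y
    rw [show x⁻¹ * (z * x * z⁻¹) = x⁻¹ * z * x * z⁻¹ by group, T.hxz, mul_inv_cancel_right]
  have hYM : Y ∉ M := fun h => by
    obtain ⟨k, hk, hYk⟩ := hmemM.1 h
    have h' := (T.el_inj (i := 0) (j := 1) (k := 0) (i' := 0) (j' := 0) (k' := k) (by simpa using hYk)).2.1
    rw [sub_zero] at h'
    exact (Nat.prime_iff_prime_int.1 hpp).not_dvd_one h'
  have hXD : X ∉ D := fun h => by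
    have hx' : x ∈ planeA y z := h
    have h' := T.mem_planeA_iff.1 (show x ^ (1 : ℤ) * y ^ (0 : ℤ) * z ^ (0 : ℤ) ∈ planeA y z by
      simpa using hx')
    exact (Nat.prime_iff_prime_int.1 hpp).not_dvd_one h'
  have hDv : ∀ d ∈ D, ∃ k : ℤ, (Y ^ k)⁻¹ * d ∈ M := by
    intro d hd
    obtain ⟨j, k, hk, hdk⟩ := hmemD.1 hd
    exact ⟨j, hmemM.2 ⟨k, hk, by
      rw [Subgroup.coe_mul, Subgroup.coe_inv, Subgroup.coe_zpow, hdk]
      show (y ^ j)⁻¹ * (y ^ j * z ^ k) = z ^ k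
      group⟩⟩
  have hYD : Y ∈ D := (Subgroup.mem_sup_left (mem_zpowers y) : y ∈ planeA y z)
  haveI hDn : D.Normal := ⟨fun d hd g => by
    have h := D.mul_mem (hMD (hcomm g d)) hd
    rwa [show g * d * (d * g)⁻¹ * d = g * d * g⁻¹ by group] at h⟩
  obtain ⟨τ, hτA, hτD, hτ2⟩ : ∃ τ ∈ F.autGroup E, (∀ d ∈ D, τ d ∈ D) ∧ ∀ e, (e ^ 2)⁻¹ * τ e ∈ D := by
    rcases hτ with ⟨φ, hφA, hφD⟩ | h
    · refine exists_torus_aut (by omega) M D hMD hMchar ?_ ?_ hcomm hexp hcA hφA hc1 hc2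
        ⟨X, fun h => hYM ?_⟩ hφD
      · exact card_of_cover hMD hYD hYM (hexp Y) hDv
      · rw [← Subgroup.card_top]
        refine card_of_cover le_top (Subgroup.mem_top X) hXD (hMD (hexp X)) fun e _ => ?_
        obtain ⟨i, j, k, hk, he⟩ := (hE (e : Ω)).1 e.2
        exact ⟨i, hmemD.2 ⟨j, k, hk, by
          rw [Subgroup.coe_mul, Subgroup.coe_inv, Subgroup.coe_zpow, he]
          show (x ^ i)⁻¹ * (x ^ i * y ^ j * z ^ k) = y ^ j * z ^ k
          group⟩⟩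
      · rwa [show Y = X⁻¹ * c X from Subtype.ext hcX.symm]
    · exact h
  obtain ⟨η, hη⟩ := hDv _ (hτD Y hYD)
  obtain ⟨k1, hk1, hτY⟩ : ∃ k1 : ℤ, (p : ℤ) ∣ k1 ∧ (τ Y : Ω) = y ^ η * z ^ k1 := by
    obtain ⟨k1, hk1, h⟩ := hmemM.1 hη
    refine ⟨k1, hk1, ?_⟩
    rw [← h, Subgroup.coe_mul, Subgroup.coe_inv, Subgroup.coe_zpow]
    exact (mul_inv_cancel_left _ _).symm
  have hη0 : ¬ (p : ℤ) ∣ η := fun h0 => hYM (by
    have hτM : τ Y ∈ M := hmemM.2 ⟨k1, hk1, by rw [hτY, T.ypow h0, one_mul]⟩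
    have := hMchar τ⁻¹ (Subgroup.inv_mem _ hτA) _ hτM
    rwa [MulAut.inv_apply_self] at this)
  have h2 : ¬ (p : ℤ) ∣ 2 := fun h => by
    have h' : p ∣ 2 := by exact_mod_cast h
    have := Nat.le_of_dvd two_pos h'
    omega
  obtain ⟨h, hh⟩ := exists_inverse_int h2
  set ν := η * h with hν
  have htw := twist hMD hcomm hexp hYD
    (fun d hd => (hDv d hd).imp fun k hk => (mk_eq_iff_mem.2 hk).symm) c τ
    (fun u hu => by rw [hcfix u (hMD hu)]; exact hu) (hMchar τ hτA) hc1 hc2 hτ2 hτD (η := η)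
    (mk_eq_iff_mem.2 hη).symm hh
  set α := τ * c * τ⁻¹ * (c ^ ν)⁻¹ with hα
  have hcνfix : ∀ u ∈ M, ((c ^ ν)⁻¹ : MulAut E) u = u := by
    intro u hu
    obtain ⟨k, hk, huk⟩ := hmemM.1 hu
    refine (c ^ ν).injective ?_
    rw [MulAut.apply_inv_self]
    refine Subtype.ext ?_
    rw [hcd, ← map_zpow]
    show (u : Ω) = z ^ ν * u * (z ^ ν)⁻¹
    rw [huk]; group
  have hαfix : ∀ u ∈ M, α u = u := by
    intro u hu
    rw [hα, MulAut.mul_apply, MulAut.mul_apply, MulAut.mul_apply, hcνfix u hu,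
      hcfix _ (hMD (hMchar τ⁻¹ (Subgroup.inv_mem _ hτA) u hu)), MulAut.apply_inv_self]
  have hval : ∀ (W : E), W ^ p = 1 → ∃ a : ℤ, (α W : Ω) = W * z ^ (q * a) := by
    intro W hW
    obtain ⟨k, hk, hWk⟩ := hmemM.1 (htw W)
    have hprod : α W = W * (W⁻¹ * α W) := (mul_inv_cancel_left _ _).symm
    have h1 : (W * (W⁻¹ * α W)) ^ p = 1 := by rw [← hprod, ← map_pow, hW, map_one]
    have hcm : Commute W (W⁻¹ * α W) := Subgroup.mem_center_iff.1 (htw W) W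
    rw [hcm.mul_pow, hW, one_mul] at h1
    have h3 : z ^ (k * (p : ℤ)) = 1 := by
      rw [zpow_mul, zpow_natCast, ← hWk]; exact congrArg Subtype.val h1
    have h4 := (T.el_inj (i := 0) (j := 0) (k := k * p) (i' := 0) (j' := 0) (k' := 0)
      (by simpa using h3)).2.2
    rw [sub_zero, ← T.q_mul] at h4
    obtain ⟨a, ha⟩ := (mul_dvd_mul_iff_right (by exact_mod_cast hpp.ne_zero : (p : ℤ) ≠ 0)).1 h4
    refine ⟨a, ?_⟩
    rw [← ha, ← hWk]; exact congrArg Subtype.val hprod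
  obtain ⟨a, ha⟩ := hval X (Subtype.ext T.hx)
  obtain ⟨b, hb⟩ := hval Y (Subtype.ext T.hy)
  obtain ⟨s', hs'⟩ := exists_inverse_int T.hs
  have hinn : α ∈ Inn E := by
    set G : E := X ^ (-(s' * b)) * Y ^ (s' * a) with hG
    refine ⟨G, ?_⟩
    have hqz : ∀ u, z ^ (s * q * (s' * u)) = z ^ (q * u) := fun u => T.zpow_congr (by
      rw [← T.q_mul, show s * q * (s' * u) - q * u = q * (s * s' - 1) * u by ring]
      exact (mul_dvd_mul (dvd_refl _) hs').mul_right u)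
    have hgX : MulAut.conj G X = α X := by
      refine Subtype.ext ?_
      rw [ha, MulAut.conj_apply, hG]
      simp only [Subgroup.coe_mul, Subgroup.coe_inv, Subgroup.coe_zpow]
      show x ^ (-(s' * b)) * y ^ (s' * a) * x * (x ^ (-(s' * b)) * y ^ (s' * a))⁻¹ = x * z ^ (q * a)
      have h' := T.yx 1 (s' * a)
      rw [zpow_one, mul_one] at h'
      have hc' : Commute (y ^ (s' * a)) (z ^ (q * a)) := T.hyz.zpow_zpow _ _
      have hc'' : Commute (x ^ (-(s' * b))) (z ^ (q * a)) :=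
        T.zk_comm (T.dvd_q.mul_right a) (zpow_mem T.x_mem _)
      rw [mul_assoc _ (y ^ (s' * a)) x, h', hqz, mul_inv_rev, mul_assoc x, hc'.eq]
      rw [show x ^ (-(s' * b)) * (x * (z ^ (q * a) * y ^ (s' * a))) * ((y ^ (s' * a))⁻¹ *
        (x ^ (-(s' * b)))⁻¹) = x * (x ^ (-(s' * b)) * z ^ (q * a) * (x ^ (-(s' * b)))⁻¹) by group,
        hc''.mul_inv_cancel]
    have hgY : MulAut.conj G Y = α Y := by
      refine Subtype.ext ?_
      rw [hb, MulAut.conj_apply, hG]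
      simp only [Subgroup.coe_mul, Subgroup.coe_inv, Subgroup.coe_zpow]
      show x ^ (-(s' * b)) * y ^ (s' * a) * y * (x ^ (-(s' * b)) * y ^ (s' * a))⁻¹ = y * z ^ (q * b)
      have h' := T.yx (s' * b) 1
      rw [zpow_one, mul_one] at h'
      rw [show x ^ (-(s' * b)) * y ^ (s' * a) * y * (x ^ (-(s' * b)) * y ^ (s' * a))⁻¹ =
        x ^ (-(s' * b)) * (y * x ^ (s' * b)) by group, h', hqz]
      group
    refine MulEquiv.ext fun e => ?_
    obtain ⟨i, j, k, hk, he⟩ := (hE (e : Ω)).1 e.2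
    have hek : e = X ^ i * Y ^ j * ⟨z ^ k, hzkE k hk⟩ := Subtype.ext (by simpa using he)
    have hZ : (⟨z ^ k, hzkE k hk⟩ : E) ∈ M := hmemM.2 ⟨k, hk, rfl⟩
    rw [hek, map_mul (MulAut.conj G), map_mul (MulAut.conj G), map_zpow (MulAut.conj G),
      map_zpow (MulAut.conj G), hgX, hgY, map_mul α, map_mul α, map_zpow α, map_zpow α,
      hαfix _ hZ, MulAut.conj_apply, Subgroup.mem_center_iff.1 hZ G, mul_inv_cancel_right]
  obtain ⟨ψ, -, hψe, e, he, hψz⟩ := exists_ext_conj hc hrec hτA hzn ν hinn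
  set Zr : ↥(E ⊔ zpowers z) := ⟨z, Subgroup.mem_sup_right (mem_zpowers z)⟩ with hZr
  set Xr : ↥(E ⊔ zpowers z) := Subgroup.inclusion le_sup_left X with hXr
  set Yr : ↥(E ⊔ zpowers z) := Subgroup.inclusion le_sup_left Y with hYr
  have hYZ : Commute Yr Zr := Subtype.ext T.hyz.eq
  have hcm : Commute ((τ Y : E) : Ω) (z ^ ν * e) := by
    have := hYZ.map ψ
    rwa [hψe Y, hψz] at this
  obtain ⟨i, j, k, hk, rfl⟩ := (hE e).1 he
  have hi : (p : ℤ) ∣ i := by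
    rw [hτY] at hcm
    have hyA : Commute (y ^ η * z ^ k1) (z ^ ν) :=
      (T.hyz.zpow_zpow η ν).mul_left ((Commute.refl z).zpow_zpow k1 ν)
    have hcm' : Commute (y ^ η * z ^ k1) (x ^ i * y ^ j * z ^ k) := by
      have := (hyA.inv_right).mul_right hcm
      rwa [inv_mul_cancel_left] at this
    have h' := hcm'.eq
    rw [show y ^ η * z ^ k1 = x ^ (0 : ℤ) * y ^ η * z ^ k1 by rw [zpow_zero, one_mul],
      T.el_mul hk1 hk, T.el_mul hk hk1] at h'
    obtain ⟨-, -, h3⟩ := T.el_inj h'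
    rw [← T.q_mul] at h3
    have hq0 : q ≠ 0 := pow_ne_zero _ (by exact_mod_cast hpp.ne_zero)
    have h4 : (p : ℤ) ∣ s * i * η := (mul_dvd_mul_iff_left hq0).1 (h3.trans (dvd_of_eq (by rw [hqd]; ring)))
    rcases (Nat.prime_iff_prime_int.1 hpp).dvd_or_dvd h4 with h5 | h5
    · exact ((Nat.prime_iff_prime_int.1 hpp).dvd_or_dvd h5).resolve_left T.hs
    · exact absurd h5 hη0
  have hψt : (z ^ ν * (x ^ i * y ^ j * z ^ k)) ^ (s * q) = z ^ (s * q * ν) := by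
    rw [T.xpow hi, one_mul,
      (((T.hyz.zpow_zpow j ν).symm).mul_right ((Commute.refl z).zpow_zpow ν k)).mul_zpow,
      (T.hyz.zpow_zpow j k).mul_zpow, ← zpow_mul, ← zpow_mul, ← zpow_mul,
      T.ypow ((T.dvd_t).mul_left j), T.zpow_one_of_dvd (j := k * (s * q))
        (by rw [← T.q_mul]; obtain ⟨w, rfl⟩ := hk; exact ⟨w * s, by rw [hqd]; ring⟩),
      mul_one, mul_one, mul_comm ν]
  obtain ⟨j2, k2, hk2, hτX⟩ : ∃ j2 k2 : ℤ, (p : ℤ) ∣ k2 ∧
      (τ X : Ω) = x ^ (2 : ℤ) * y ^ j2 * z ^ k2 := by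
    obtain ⟨j2, k2, hk2, h⟩ := hmemD.1 (hτ2 X)
    refine ⟨j2, k2, hk2, ?_⟩
    rw [mul_assoc, ← h, Subgroup.coe_mul, Subgroup.coe_inv, Subgroup.coe_pow, ← zpow_natCast]
    exact (mul_inv_cancel_left _ _).symm
  have hrel : Yr * Xr = Xr * Yr * Zr ^ (s * q) := Subtype.ext (by
    show y * x = x * y * z ^ (s * q)
    rw [mul_assoc x, ← T.hxy]; group)
  have h6 := congrArg ψ hrel
  rw [map_mul, map_mul, map_mul, map_zpow, hψe X, hψe Y, hψz, hψt, hτX, hτY,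
    show y ^ η * z ^ k1 = x ^ (0 : ℤ) * y ^ η * z ^ k1 by rw [zpow_zero, one_mul],
    T.el_mul hk1 hk2, T.el_mul hk2 hk1, mul_assoc (x ^ (2 + 0 : ℤ) * y ^ _) (z ^ _), ← zpow_add] at h6
  obtain ⟨-, -, h7⟩ := T.el_inj h6
  rw [← T.q_mul] at h7
  have hq0 : q ≠ 0 := pow_ne_zero _ (by exact_mod_cast hpp.ne_zero)
  have h8 : (p : ℤ) ∣ s * (η * (2 - h)) := (mul_dvd_mul_iff_left hq0).1
    (h7.trans (dvd_of_eq (by rw [hqd, hν]; ring)))
  have h9 := ((Nat.prime_iff_prime_int.1 hpp).dvd_or_dvd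
    (((Nat.prime_iff_prime_int.1 hpp).dvd_or_dvd h8).resolve_left T.hs)).resolve_left hη0
  have h10 : (p : ℤ) ∣ 3 := by
    obtain ⟨u, hu⟩ := h9
    obtain ⟨w, hw⟩ := hh
    exact ⟨2 * u + w, by linear_combination 2 * hu + hw⟩
  have h11 : p ∣ 3 := by exact_mod_cast h10
  have := Nat.le_of_dvd three_pos h11
  omega

end Cfsg.Agent.H73.Resistant
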