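import Mathlib
import Cfsg.Agent.H73.Resistant.TypeTwo

/-! Rank two groups of the second type, `p ≥ 5`, carry no essential subgroups: all cases. -/

set_option autoImplicit false
set_option linter.style.haveILetI false
set_option linter.unusedSectionVars false

namespace Cfsg.Agent.H73.Resistant

open Subgroup (zpowers mem_zpowers zpowers_le)
open Cfsg Cfsg.FusionSystem Cfsg.Agent.FusionSys Cfsg.Agent.FusionAlperin

variable {Ω : Type*} [Group Ω] {S : Subgroup Ω} [Finite S] {p m : ℕ} [Fact p.Prime] {s : ℤ}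
  {x y z : Ω}

theorem int_not_dvd_one : ¬ (p : ℤ) ∣ 1 :=
  (Nat.prime_iff_prime_int.1 (Fact.out : p.Prime)).not_dvd_one

theorem dvd_of_dvd_mul {a b : ℤ} (h : (p : ℤ) ∣ a * b) (ha : ¬ (p : ℤ) ∣ a) : (p : ℤ) ∣ b :=
  ((Nat.prime_iff_prime_int.1 (Fact.out : p.Prime)).dvd_or_dvd h).resolve_left ha

/-- An exponent inverse to `a` modulo `p`, as a natural number. -/
theorem exists_inverse_nat {a : ℤ} (ha : ¬ (p : ℤ) ∣ a) : ∃ b : ℕ, (p : ℤ) ∣ a * b - 1 := by
  obtain ⟨b, c, hb⟩ := exists_inverse_int ha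
  have hpos : (0 : ℤ) < p := by exact_mod_cast (Fact.out : p.Prime).pos
  refine ⟨(b % p).toNat, ?_⟩
  rw [Int.toNat_of_nonneg (Int.emod_nonneg b hpos.ne'), Int.emod_def]
  exact ⟨c - a * (b / p), by linear_combination hb⟩

/-- A pearl `⟨x, z ^ p⟩` in the group of order `p ^ 4`. -/
theorem TypeTwo.not_pearl (T : TypeTwo p S m s x y z) (hS : IsPGroup p S) (hp : 5 ≤ p)
    {F : FusionSystem S} (hF : F.IsSaturated p) {E : Subgroup Ω} (hEss : F.IsEssential p E)
    (hm2 : m = 2) (hEm : ∀ g, g ∈ E ↔ ∃ i k : ℤ, (p : ℤ) ∣ k ∧ g = x ^ i * z ^ k) : False := by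
  classical
  subst hm2
  have hpp := (Fact.out : p.Prime)
  have hES : E ≤ S := hEss.1.1
  haveI : Finite E := finite_of_le ‹_› hES
  have hEp : IsPGroup p E := hS.to_le hES
  have hno := noOuterPNormal_of_essential (p := p) hEss
  have hxE : x ∈ E := (hEm x).2 ⟨1, 0, dvd_zero _, by simp⟩
  have hzE : z ^ (p : ℤ) ∈ E := (hEm _).2 ⟨0, p, dvd_rfl, by simp⟩
  have hyE : y ∉ E := by
    intro h
    obtain ⟨i, k, -, hy⟩ := (hEm y).1 h
    have := (T.el_inj (i := 0) (j := 1) (k := 0) (i' := i) (j' := 0) (k' := k) (by simpa using hy)).2.1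
    rw [sub_zero] at this
    exact int_not_dvd_one this
  have hzz : ∀ {k : ℤ}, (p : ℤ) ∣ k → z ^ (k * p) = 1 := fun {k} hk => by
    obtain ⟨w, rfl⟩ := hk
    exact T.zpow_one_of_dvd ⟨w, by ring⟩
  set X : E := ⟨x, hxE⟩ with hX
  set Zp : E := ⟨z ^ (p : ℤ), hzE⟩ with hZp
  have hcomm : ∀ a b : E, a * b = b * a := by
    intro a b
    obtain ⟨i, k, hk, ha⟩ := (hEm (a : Ω)).1 a.2
    obtain ⟨i', k', hk', hb⟩ := (hEm (b : Ω)).1 b.2
    refine Subtype.ext ?_
    rw [Subgroup.coe_mul, Subgroup.coe_mul, ha, hb]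
    exact (Commute.mul_left
      (((Commute.refl x).zpow_zpow i i').mul_right ((T.zk_comm_x hk').zpow_left i))
      (((T.zk_comm_x hk).zpow_left i').symm.mul_right ((Commute.refl z).zpow_zpow k k'))).eq
  have hpow : ∀ a : E, a ^ p = 1 := by
    intro a
    obtain ⟨i, k, hk, ha⟩ := (hEm (a : Ω)).1 a.2
    refine Subtype.ext ?_
    rw [Subgroup.coe_pow, ha, ((T.zk_comm_x hk).zpow_left i).mul_pow, ← zpow_natCast (x ^ i),
      ← zpow_natCast (z ^ k), ← zpow_mul, ← zpow_mul, T.xpow (dvd_mul_left _ _), hzz hk, one_mul]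
    rfl
  set D := zpowers Zp with hD
  haveI hDn : D.Normal := ⟨fun d hd g => by rwa [hcomm g d, mul_inv_cancel_right]⟩
  have hyN : y ∈ normalizerIn S E := by
    refine ⟨T.y_mem, mem_normalizer_of_conj fun e he => ?_⟩
    obtain ⟨i, k, hk, rfl⟩ := (hEm e).1 he
    refine (hEm _).2 ⟨i, s * (p : ℤ) ^ (2 - 1) * i * 1 + k, dvd_add ((T.dvd_t.mul_right _).mul_right _) hk, ?_⟩
    have h := T.yx i 1
    rw [zpow_one] at h
    rw [← mul_assoc y, h, zpow_add, mul_assoc (x ^ i * y), ← zpow_add,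
      mul_assoc (x ^ i) y, (T.hyz.zpow_right _).eq]
    group
  set c := E.normalizerMonoidHom ⟨y, hyN.2⟩ with hcd
  have hcA : c ∈ F.autGroup E := conjAut_mem_autGroup hES hyN
  have hcZ : c Zp = Zp := by
    refine Subtype.ext ?_
    rw [hcd, coe_conjAut]
    exact ((T.hyz.zpow_right (p : ℤ)).mul_inv_cancel)
  have hcX : X⁻¹ * c X = Zp ^ s := by
    refine Subtype.ext ?_
    rw [Subgroup.coe_mul, Subgroup.coe_inv, hcd, coe_conjAut, Subgroup.coe_zpow]
    show x⁻¹ * (y * x * y⁻¹) = (z ^ (p : ℤ)) ^ s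
    rw [show x⁻¹ * (y * x * y⁻¹) = x⁻¹ * y * x * y⁻¹ by group, T.hxy,
      (T.hyz.zpow_right _).mul_inv_cancel, ← zpow_mul]
    congr 1; rw [mul_comm s]; simp
  have hc2 : ∀ d ∈ D, d⁻¹ * c d ∈ (⊥ : Subgroup E) := by
    rintro _ ⟨k, rfl⟩
    simp [map_zpow, hcZ]
  have hrep : ∀ e : E, ∃ i k : ℤ, e = X ^ i * Zp ^ k := by
    intro e
    obtain ⟨i, k, ⟨w, rfl⟩, he⟩ := (hEm (e : Ω)).1 e.2
    refine ⟨i, w, Subtype.ext ?_⟩
    rw [he, Subgroup.coe_mul, Subgroup.coe_zpow, Subgroup.coe_zpow, zpow_mul]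
  have hc1 : ∀ e, e⁻¹ * c e ∈ D := by
    intro e
    obtain ⟨i, k, rfl⟩ := hrep e
    rw [map_mul, map_zpow, map_zpow, hcZ, show c X = X * Zp ^ s by rw [← hcX, mul_inv_cancel_left],
      (show Commute X (Zp ^ s) from hcomm _ _).mul_zpow]
    refine ⟨s * i, ?_⟩
    show Zp ^ (s * i) = _
    rw [zpow_mul]
    calc (Zp ^ s) ^ i = (Zp ^ k)⁻¹ * ((Zp ^ s) ^ i * Zp ^ k) := by
          rw [hcomm ((Zp ^ s) ^ i), inv_mul_cancel_left]
      _ = _ := by group
  have hXD : X ∉ D := by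
    rintro ⟨k, hk⟩
    have hk' : (z ^ (p : ℤ)) ^ k = x := congrArg Subtype.val hk
    rw [← zpow_mul] at hk'
    have := (T.el_inj (i := 1) (j := 0) (k := 0) (i' := 0) (j' := 0) (k' := p * k)
      (by simpa using hk'.symm)).1
    rw [sub_zero] at this
    exact int_not_dvd_one this
  have hZ1 : Zp ∉ (⊥ : Subgroup E) := by
    intro h
    have hk' : z ^ (p : ℤ) = 1 := congrArg Subtype.val (Subgroup.mem_bot.1 h)
    have := (T.el_inj (i := 0) (j := 0) (k := p) (i' := 0) (j' := 0) (k' := 0)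
      (by simpa using hk')).2.2
    rw [sub_zero] at this
    have h2 := (Int.natCast_dvd_natCast (m := p ^ 2) (n := p)).1 (by exact_mod_cast this)
    have := Nat.le_of_dvd hpp.pos h2
    rw [pow_two] at this
    have : 2 * p ≤ p * p := Nat.mul_le_mul_right p hpp.two_le
    omega
  by_cases hpres : ∀ α ∈ F.autGroup E, ∀ d ∈ D, α d ∈ D
  · exact hyE (mem_of_stab hEp hEss.1 hno (bot_le : (⊥ : Subgroup E) ≤ D) bot_le
      (fun α hα => map_eq_of_forall_mem (hpres α hα)) (fun α _ => Subgroup.map_bot _) hyN ⟨hc1, hc2⟩)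
  push Not at hpres
  obtain ⟨φ, hφA, d₀, hd₀, hφd⟩ := hpres
  have hMchar : ∀ α ∈ F.autGroup E, ∀ u ∈ (⊥ : Subgroup E), α u ∈ (⊥ : Subgroup E) :=
    fun α _ u hu => by simp [Subgroup.mem_bot.1 hu]
  have hcommM : ∀ a b : E, a * b * (b * a)⁻¹ ∈ (⊥ : Subgroup E) := fun a b => by
    rw [hcomm a b, mul_inv_cancel]; exact one_mem _
  have hexp : ∀ a : E, a ^ p ∈ (⊥ : Subgroup E) := fun a => by rw [hpow a]; exact one_mem _
  have hDcard : Nat.card D = p * Nat.card (⊥ : Subgroup E) :=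
    card_of_cover bot_le (mem_zpowers Zp) hZ1 (hexp Zp) (by
      rintro _ ⟨k, rfl⟩
      exact ⟨k, by simp⟩)
  have hEcard : Nat.card E = p * Nat.card D := by
    rw [← Subgroup.card_top]
    refine card_of_cover le_top (Subgroup.mem_top X) hXD (by rw [hpow X]; exact one_mem _) fun e _ => ?_
    obtain ⟨i, k, rfl⟩ := hrep e
    exact ⟨i, k, (inv_mul_cancel_left _ _).symm⟩
  have hne : ∃ e, e⁻¹ * c e ∉ (⊥ : Subgroup E) := by
    refine ⟨X, fun h => hZ1 ?_⟩
    rw [hcX, Subgroup.mem_bot] at h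
    rw [Subgroup.mem_bot]
    obtain ⟨s', hs'⟩ := exists_inverse_int T.hs
    rw [← zpow_one Zp, ← zpow_eq_of_dvd (hpow Zp) hs', zpow_mul, h, one_zpow]
  obtain ⟨τ, hτA, hτD, hτ2⟩ := exists_torus_aut (by omega) (⊥ : Subgroup E) D bot_le hMchar hDcard
    hEcard hcommM hexp hcA hφA hc1 hc2 hne ⟨d₀, hd₀, hφd⟩
  obtain ⟨η, hη⟩ : ∃ η : ℤ, Zp ^ η = τ Zp := hτD Zp (mem_zpowers _)
  have h2 : ¬ (p : ℤ) ∣ 2 := fun h => by
    have h' : p ∣ 2 := by exact_mod_cast h
    have := Nat.le_of_dvd two_pos h'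
    omega
  obtain ⟨h, hh⟩ := exists_inverse_int h2
  have htw := twist (bot_le : (⊥ : Subgroup E) ≤ D) hcommM hexp (mem_zpowers Zp)
    (by rintro _ ⟨k, rfl⟩; exact ⟨k, rfl⟩) c τ
    (fun u hu => by simp [Subgroup.mem_bot.1 hu]) (hMchar τ hτA) hc1 hc2 hτ2 hτD (η := η)
    (by rw [hη]) hh
  have hinn : τ * c * τ⁻¹ * (c ^ (η * h))⁻¹ ∈ Inn E := by
    rw [show τ * c * τ⁻¹ * (c ^ (η * h))⁻¹ = 1 from MulEquiv.ext fun e =>
      (inv_mul_eq_one.1 (Subgroup.mem_bot.1 (htw e))).symm]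
    exact one_mem _
  set R := E ⊔ zpowers y with hR
  obtain ⟨ψ, hψ, hψe, e, he, hψy⟩ := exists_ext_conj hEss.1
    (saturated_receptive_of_fullyNormalized hS hF hEss.2.1) hτA hyN (η * h) hinn
  have hRS : R ≤ S := sup_le hES (zpowers_le.2 T.y_mem)
  haveI : Finite R := finite_of_le ‹_› hRS
  have hRm : ∀ g, g ∈ R ↔ ∃ i j k : ℤ, (p : ℤ) ∣ k ∧ g = x ^ i * y ^ j * z ^ k := by
    intro g
    constructor
    · intro hg
      refine T.mem_maxR.1 (?_ : g ∈ T.maxR)
      refine (sup_le (fun e he => ?_) (zpowers_le.2 ?_) : R ≤ T.maxR) hg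
      · obtain ⟨i, k, hk, rfl⟩ := (hEm e).1 he
        exact T.mem_maxR.2 ⟨i, 0, k, hk, by simp⟩
      · exact T.mem_maxR.2 ⟨0, 1, 0, dvd_zero _, by simp⟩
    · rintro ⟨i, j, k, hk, rfl⟩
      refine mul_mem (mul_mem (zpow_mem (Subgroup.mem_sup_left hxE) i)
        (zpow_mem (Subgroup.mem_sup_right (mem_zpowers y)) j)) (Subgroup.mem_sup_left ((hEm _).2
        ⟨0, k, hk, by simp⟩))
  have hrange : ψ.range = R := by
    refine range_eq_of_image_le (F.injective_of_mem hψ) ?_ le_rfl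
    rintro _ ⟨r, rfl⟩
    have hle : R ≤ (R.comap ψ).map R.subtype := by
      refine sup_le (fun e he => ?_) (zpowers_le.2 ?_)
      · refine ⟨Subgroup.inclusion le_sup_left ⟨e, he⟩, ?_, rfl⟩
        show ψ _ ∈ R
        rw [hψe]; exact Subgroup.mem_sup_left (τ ⟨e, he⟩).2
      · refine ⟨⟨y, Subgroup.mem_sup_right (mem_zpowers y)⟩, ?_, rfl⟩
        show ψ _ ∈ R
        rw [hψy]
        exact mul_mem (zpow_mem (Subgroup.mem_sup_right (mem_zpowers y)) _) (Subgroup.mem_sup_left he)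
    obtain ⟨r', hr', hrr⟩ := hle r.2
    rw [← show r' = r from Subtype.ext hrr]
    exact hr'
  set τ' := toIso F hψ hrange with hτ'
  have hτ'A : τ' ∈ F.autGroup R := toIso_mem_autGroup F hψ hrange
  refine T.finish hS hp hF hRm (isCentric_mono hEss.1 le_sup_left hRS) ?_
  set DR := (planeA y z).subgroupOf R with hDR
  by_cases hmove : ∀ d ∈ DR, τ' d ∈ DR
  swap
  · push Not at hmove
    exact Or.inl ⟨τ', hτ'A, hmove⟩
  refine Or.inr ⟨τ', hτ'A, hmove, fun r => ?_⟩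
  haveI : DR.Normal := ⟨fun d hd g => by
    show ((g * d * g⁻¹ : R) : Ω) ∈ planeA y z
    have := T.conj_planeA (g := (g : Ω)⁻¹) (S.inv_mem (hRS g.2)) (hd : (d : Ω) ∈ planeA y z)
    simpa using this⟩
  set π := QuotientGroup.mk' DR with hπ
  set XR : R := Subgroup.inclusion le_sup_left X with hXR
  obtain ⟨i, j, k, hk, hr⟩ := (hRm (r : Ω)).1 r.2
  have hd : (XR ^ i)⁻¹ * r ∈ DR := by
    show (((XR ^ i)⁻¹ * r : R) : Ω) ∈ planeA y z
    rw [Subgroup.coe_mul, Subgroup.coe_inv, Subgroup.coe_zpow, hr]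
    show (x ^ i)⁻¹ * (x ^ i * y ^ j * z ^ k) ∈ planeA y z
    rw [mul_assoc, inv_mul_cancel_left]
    exact (mem_planeA T.hyz).2 ⟨j, k, rfl⟩
  have hπr : π r = π XR ^ i := by
    rw [← map_zpow]; exact (QuotientGroup.eq.2 hd).symm
  have hπτr : π (τ' r) = π (τ' XR) ^ i := by
    rw [← map_zpow, ← map_zpow]
    refine (QuotientGroup.eq.2 ?_).symm
    rw [← map_inv, ← map_mul]
    exact hmove _ hd
  have hπX : π (τ' XR) = π XR ^ (2 : ℤ) := by
    rw [← map_zpow]
    refine (QuotientGroup.eq.2 ?_).symm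
    show (((XR ^ (2 : ℤ))⁻¹ * τ' XR : R) : Ω) ∈ planeA y z
    rw [Subgroup.coe_mul, Subgroup.coe_inv, Subgroup.coe_zpow, hτ', toIso_coe, hψe X,
      show ((XR : R) : Ω) ^ (2 : ℤ) = x ^ 2 from zpow_ofNat _ 2]
    obtain ⟨k', hk'⟩ := hτ2 X
    have hk'' : (z ^ (p : ℤ)) ^ k' = (x ^ 2)⁻¹ * (τ X : Ω) := congrArg Subtype.val hk'
    rw [← hk'', ← zpow_mul]
    exact (mem_planeA T.hyz).2 ⟨0, _, by rw [zpow_zero, one_mul]⟩
  refine (QuotientGroup.eq_one_iff _).1 ?_
  show π ((r ^ 2)⁻¹ * τ' r) = 1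
  rw [map_mul, map_inv, map_pow, hπr, hπτr, hπX, ← zpow_natCast, ← zpow_mul, ← zpow_mul,
    mul_comm i, Nat.cast_ofNat, inv_mul_cancel]

/-- A group of the second type has no essential subgroup. -/
theorem TypeTwo.not_essential (T : TypeTwo p S m s x y z) (hS : IsPGroup p S) (hp : 5 ≤ p)
    {F : FusionSystem S} (hF : F.IsSaturated p) {E : Subgroup Ω} (hEss : F.IsEssential p E) :
    False := by
  classical
  have hpp := (Fact.out : p.Prime)
  have hES : E ≤ S := hEss.1.1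
  haveI : Finite E := finite_of_le ‹_› hES
  have hEp : IsPGroup p E := hS.to_le hES
  have hno := noOuterPNormal_of_essential (p := p) hEss
  have hm := T.hm
  set q : ℤ := (p : ℤ) ^ (m - 1) with hqd
  set qn : ℕ := p ^ (m - 1) with hqn
  have hqq : (qn : ℤ) = q := by rw [hqn, hqd]; push_cast; rfl
  have hq0 : q ≠ 0 := pow_ne_zero _ (by exact_mod_cast hpp.ne_zero)
  have hlt : E < S := by
    refine lt_of_le_of_ne hES fun h => ?_
    subst h
    obtain ⟨-, -, hn, Y, hY⟩ := hEss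
    haveI := hn
    obtain ⟨hd, -, -⟩ := spe_exists_sylow hY
    obtain ⟨R, hR⟩ := FusionBatch.autGroup_self_sylow hS hF
    exact R.not_dvd_index (hR ▸ hd)
  have hZc : ∀ k : ℤ, (p : ℤ) ∣ k → z ^ k ∈ E := fun k hk =>
    centralizerIn_self_centric hEss.1 ⟨zpow_mem T.z_mem k, Subgroup.mem_centralizer_iff.2 fun u hu =>
      (T.zk_comm hk (hES hu)).eq⟩
  have hAS : planeA y z ≤ S := sup_le (zpowers_le.2 T.y_mem) (zpowers_le.2 T.z_mem)
  have hzpowq : ∀ k : ℤ, (p : ℤ) ∣ k → z ^ (k * q) = 1 := fun k hk => T.zpow_one_of_dvd (by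
    rw [← T.q_mul]; obtain ⟨w, rfl⟩ := hk; exact ⟨w, by rw [hqd]; ring⟩)
  have hzq : ∀ k : ℤ, z ^ (k * q) = 1 → (p : ℤ) ∣ k := fun k h => by
    have h4 := (T.el_inj (i := 0) (j := 0) (k := k * q) (i' := 0) (j' := 0) (k' := 0)
      (by simpa using h)).2.2
    rw [sub_zero, ← T.q_mul, mul_comm k] at h4
    exact (mul_dvd_mul_iff_left hq0).1 h4
  by_cases hA : E ≤ planeA y z
  · have hEA : E = planeA y z := le_antisymm hA fun a ha => centralizerIn_self_centric hEss.1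
      ⟨hAS ha, Subgroup.mem_centralizer_iff.2 fun u hu => by
        obtain ⟨j, k, rfl⟩ := (mem_planeA T.hyz).1 ha
        obtain ⟨j', k', rfl⟩ := (mem_planeA T.hyz).1 (hA hu)
        rw [T.a_mul, T.a_mul, add_comm j, add_comm k]⟩
    have hyzp : Commute y (z ^ (p : ℤ)) := T.hyz.zpow_right _
    set D := (planeA y (z ^ (p : ℤ))).subgroupOf E with hD
    have hDq : ∀ e : E, e ∈ D ↔ e ^ qn = 1 := by
      intro e
      obtain ⟨j, k, he⟩ := (mem_planeA T.hyz).1 (hA e.2)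
      have hval : ((e ^ qn : E) : Ω) = z ^ (k * q) := by
        rw [Subgroup.coe_pow, he, ← zpow_natCast, hqq, (T.hyz.zpow_zpow j k).mul_zpow, ← zpow_mul,
          ← zpow_mul, T.ypow (T.dvd_q.mul_left j), one_mul]
      constructor
      · intro h
        have h0 : (e : Ω) ∈ planeA y (z ^ (p : ℤ)) := h
        rw [he] at h0
        obtain ⟨j', k', h'⟩ := (mem_planeA hyzp).1 h0
        rw [← zpow_mul] at h'
        have hkk := (T.el_inj (i := 0) (i' := 0) (j := j) (k := k) (j' := j') (k' := p * k')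
          (by simpa using h')).2.2
        refine Subtype.ext (hval.trans (hzpowq k ?_))
        have := dvd_add ((dvd_pow_self (p : ℤ) (by omega : m ≠ 0)).trans hkk) (dvd_mul_right (p : ℤ) k')
        rwa [sub_add_cancel] at this
      · intro h
        obtain ⟨w, hw⟩ := hzq k (hval.symm.trans (congrArg Subtype.val h))
        show (e : Ω) ∈ planeA y (z ^ (p : ℤ))
        exact (mem_planeA hyzp).2 ⟨j, w, by rw [he, hw, zpow_mul]⟩
    have hDmap : ∀ α ∈ F.autGroup E, D.map α.toMonoidHom = D := fun α _ =>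
      map_eq_of_forall_mem fun d hd => (hDq _).2 (by rw [← map_pow, (hDq d).1 hd, map_one])
    have hxN : x⁻¹ ∈ normalizerIn S E :=
      ⟨S.inv_mem T.x_mem, hEA ▸ Subgroup.inv_mem _ T.x_normalizes⟩
    have hxE : x⁻¹ ∈ E := by
      refine mem_of_stab hEp hEss.1 hno (inf_le_right : frattini E ⊓ D ≤ D) inf_le_left hDmap
        (fun α hα => by
          rw [Subgroup.map_inf _ _ _ α.injective, map_frattini_eq, hDmap α hα]) hxN
        (mem_stab.2 ⟨fun e => ?_, fun d hd => ?_⟩)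
      all_goals
        have hcoe : ∀ (e : E) (j k : ℤ), (e : Ω) = y ^ j * z ^ k →
            ((e⁻¹ * E.normalizerMonoidHom ⟨x⁻¹, hxN.2⟩ e : E) : Ω) =
              y ^ k * z ^ (s * q * j) := by
          intro e j k he
          rw [Subgroup.coe_mul, Subgroup.coe_inv, coe_conjAut, inv_inv, he, T.conjX, add_comm j,
            add_comm k (_ * j), zpow_add, zpow_add]
          rw [(T.hyz.zpow_zpow j k).eq, mul_inv_rev]
          calc (y ^ j)⁻¹ * (z ^ k)⁻¹ * (y ^ k * y ^ j * (z ^ (s * q * j) * z ^ k))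
              = (y ^ j)⁻¹ * ((z ^ k)⁻¹ * (y ^ k * y ^ j)) * z ^ (s * q * j) * z ^ k := by group
            _ = y ^ k * (z ^ k)⁻¹ * z ^ (s * q * j) * z ^ k := by
              rw [(((T.hyz.zpow_zpow k k).mul_left (T.hyz.zpow_zpow j k)).symm.inv_left).eq,
                ← mul_assoc, ← zpow_add, ← zpow_neg, ← zpow_add]
              congr 2; congr 1; congr 1; ring
            _ = _ := by group
      · obtain ⟨j, k, he⟩ := (mem_planeA T.hyz).1 (hA e.2)
        obtain ⟨w, hw⟩ := (T.dvd_t (x := x)).mul_right j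
        show ((e⁻¹ * E.normalizerMonoidHom ⟨x⁻¹, hxN.2⟩ e : E) : Ω) ∈ planeA y (z ^ (p : ℤ))
        exact (mem_planeA hyzp).2 ⟨k, w, by rw [hcoe e j k he, hw, zpow_mul]⟩
      · have hd' : (d : Ω) ∈ planeA y (z ^ (p : ℤ)) := hd
        obtain ⟨j, w, he⟩ := (mem_planeA hyzp).1 hd'
        rw [← zpow_mul] at he
        have hmem := hcoe d j _ he
        rw [T.ypow (dvd_mul_right _ _), one_mul] at hmem
        obtain ⟨u, hu⟩ := T.dvd_t.mul_right j
        refine ⟨?_, show ((d⁻¹ * E.normalizerMonoidHom ⟨x⁻¹, hxN.2⟩ d : E) : Ω) ∈ planeA y (z ^ (p : ℤ))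
          from (mem_planeA hyzp).2 ⟨0, u, by rw [hmem, hu, zpow_zero, one_mul, zpow_mul]⟩⟩
        have : (d⁻¹ * E.normalizerMonoidHom ⟨x⁻¹, hxN.2⟩ d) =
            (⟨z ^ u, hEA ▸ Subgroup.mem_sup_right ⟨u, rfl⟩⟩ : E) ^ p := Subtype.ext (by
          rw [hmem, hu, Subgroup.coe_pow, ← zpow_natCast, ← zpow_mul, mul_comm])
        rw [this]
        exact PGroup.pow_mem_frattini hEp _
    obtain ⟨j, k, hx⟩ := (mem_planeA T.hyz).1 (hA hxE)
    have h' := (T.el_inj (i := -1) (j := 0) (k := 0) (i' := 0) (j' := j) (k' := k) (by simpa using hx)).1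
    rw [sub_zero, dvd_neg] at h'
    exact int_not_dvd_one h'
  -- `E` contains an element `x * z ^ l` after a shift
  obtain ⟨g, hgE, hgA⟩ := SetLike.not_le_iff_exists.1 hA
  obtain ⟨i, j, k, rfl⟩ := T.cover (hES hgE)
  have hi : ¬ (p : ℤ) ∣ i := fun h => hgA (T.mem_planeA_iff.2 h)
  obtain ⟨b, hb⟩ := exists_inverse_nat hi
  obtain ⟨a, l, hal⟩ := T.pow_coord i j k b
  have hwE : x * y ^ a * z ^ l ∈ E := by
    rw [show x * y ^ a * z ^ l = (x ^ i * y ^ j * z ^ k) ^ b by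
      rw [hal, zpow_eq_of_dvd T.hx hb, zpow_one]]
    exact pow_mem hgE b
  replace hgE : x * y ^ a * z ^ l ∈ E := hwE
  clear hgA hal hwE hb hi i j k b
  -- normalize
  have T' := T.shift hp a
  generalize x * y ^ a = x' at T' hgE
  clear T
  set w := x' * z ^ l with hw
  have hAE : ∀ j k : ℤ, y ^ j * z ^ k ∈ E → (p : ℤ) ∣ k := by
    intro j k hjk
    by_contra hk
    refine hlt.not_ge ?_
    have h1 : x'⁻¹ * (y ^ j * z ^ k) * x' = y ^ (j + k) * z ^ (k + s * q * j) := T'.conjX j k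
    have h2 : w⁻¹ * (y ^ j * z ^ k) * w = y ^ (j + k) * z ^ (k + s * q * j) := by
      rw [hw, show (x' * z ^ l)⁻¹ * (y ^ j * z ^ k) * (x' * z ^ l) =
        (z ^ l)⁻¹ * (x'⁻¹ * (y ^ j * z ^ k) * x') * z ^ l by group, h1]
      exact (((T'.hyz.zpow_zpow (j + k) l).mul_left
        ((Commute.refl z).zpow_zpow (k + s * q * j) l)).symm).inv_mul_cancel
    have h3 : y ^ k * z ^ (s * q * j) ∈ E := by
      have h4 := mul_mem (inv_mem hjk) (mul_mem (mul_mem (inv_mem hgE) hjk) hgE)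
      rw [h2, (T'.hyz.zpow_zpow j k).eq, mul_inv_rev, add_comm j, add_comm k (_ * j), zpow_add,
        zpow_add] at h4
      have h5 : (y ^ j)⁻¹ * (z ^ k)⁻¹ * (y ^ k * y ^ j * (z ^ (s * q * j) * z ^ k)) =
          y ^ k * z ^ (s * q * j) := by
        rw [← mul_inv_rev, inv_mul_eq_iff_eq_mul, (T'.hyz.zpow_zpow j k).symm.eq, T'.a_mul,
          ← zpow_add, ← zpow_add]
        congr 2 <;> ring
      rwa [h5] at h4
    have hyk : y ^ k ∈ E := by
      have := mul_mem h3 (inv_mem (hZc (s * q * j) ((T'.dvd_t).mul_right j)))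
      rwa [mul_inv_cancel_right] at this
    obtain ⟨k', hk'⟩ := exists_inverse_int hk
    have hyE : y ∈ E := by
      rw [← zpow_one y, ← zpow_eq_of_dvd T'.hy hk', zpow_mul]
      exact zpow_mem hyk _
    have hzE : z ∈ E := by
      have hzk : z ^ k ∈ E := by
        simpa using mul_mem (inv_mem (zpow_mem hyE j)) hjk
      obtain ⟨u, hu⟩ := hk'
      have := mul_mem (zpow_mem hzk k') (inv_mem (hZc _ (dvd_mul_right (p : ℤ) u)))
      rwa [← zpow_mul, ← zpow_neg, ← zpow_add, show k * k' + -((p : ℤ) * u) = 1 by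
        linear_combination hu, zpow_one] at this
    rw [← T'.hgen, Subgroup.closure_le]
    rintro u (rfl | rfl | rfl)
    · simpa [hw] using mul_mem hgE (inv_mem (zpow_mem hzE l))
    · exact hyE
    · exact hzE
  have hrep : ∀ e ∈ E, ∃ i : ℕ, ∃ j k : ℤ, (p : ℤ) ∣ k ∧ e = w ^ i * (y ^ j * z ^ k) := by
    intro e he
    obtain ⟨i, j, k, hijk⟩ := T'.cover (hES he)
    have hpos : (0 : ℤ) < p := by exact_mod_cast hpp.pos
    obtain ⟨i0, hi0⟩ := Int.eq_ofNat_of_zero_le (Int.emod_nonneg i hpos.ne')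
    rw [zpow_eq_of_dvd T'.hx (b := (i0 : ℤ)) ⟨i / p, by rw [← hi0, Int.emod_def]; ring⟩] at hijk
    obtain ⟨J, K, hJK⟩ := T'.pow_coord 1 0 l i0
    rw [zpow_one, zpow_zero, mul_one, one_mul, ← hw] at hJK
    refine ⟨i0, j - J, k - K, ?_, ?_⟩
    · have hmem : (w ^ i0)⁻¹ * e ∈ E := mul_mem (inv_mem (pow_mem hgE i0)) he
      refine hAE (j - J) (k - K) ?_
      rwa [hJK, hijk, mul_assoc, mul_assoc, mul_inv_rev, mul_assoc, inv_mul_cancel_left,
        inv_mul_eq_iff_eq_mul.2 (show y ^ j * z ^ k = y ^ J * z ^ K * (y ^ (j - J) * z ^ (k - K)) by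
          rw [T'.a_mul, add_sub_cancel, add_sub_cancel])] at hmem
    · rw [hJK, hijk, mul_assoc _ (y ^ J), mul_assoc _ (y ^ J * z ^ K), T'.a_mul, add_sub_cancel,
        add_sub_cancel, mul_assoc]
  have hxy : x'⁻¹ * y * x' = y * z ^ (s * q) := T'.hxy
  by_cases hyE : y ∈ E
  · -- `E` has index `p`
    set D := (planeA y z).subgroupOf E with hD
    have hzN : z ∈ normalizerIn S E := by
      refine ⟨T'.z_mem, mem_normalizer_of_conj fun e he => ?_⟩
      obtain ⟨i, j, k, hk, rfl⟩ := hrep e he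
      have hzw : z * w * z⁻¹ = x' * y * z ^ l := by
        rw [hw, show z * (x' * z ^ l) * z⁻¹ = x' * (x'⁻¹ * z * x') * (z ^ l * z⁻¹) by group, T'.hxz]
        group
      have hcj : Commute z (y ^ j * z ^ k) :=
        (T'.hyz.symm.zpow_right j).mul_right ((Commute.refl z).zpow_right k)
      rw [show z * (w ^ i * (y ^ j * z ^ k)) * z⁻¹ =
        (z * w ^ i * z⁻¹) * (z * (y ^ j * z ^ k) * z⁻¹) by group, ← conj_pow, hzw,
        hcj.mul_inv_cancel]
      refine mul_mem (pow_mem ?_ i) (mul_mem (zpow_mem hyE j) (hZc k hk))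
      have h : x' * y * z ^ l = w * y := by
        rw [hw, mul_assoc, mul_assoc, (T'.hyz.zpow_right l).eq]
      rw [h]
      exact mul_mem hgE hyE
    have hcD : ∀ e : E, e⁻¹ * E.normalizerMonoidHom ⟨z, hzN.2⟩ e ∈ D := by
      intro e
      show ((e⁻¹ * E.normalizerMonoidHom ⟨z, hzN.2⟩ e : E) : Ω) ∈ planeA y z
      rw [Subgroup.coe_mul, Subgroup.coe_inv, coe_conjAut,
        show (e : Ω)⁻¹ * (z * e * z⁻¹) = (e : Ω)⁻¹ * z * e * z⁻¹ by group]
      have hz1 : z ∈ planeA y z := Subgroup.mem_sup_right (mem_zpowers z)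
      exact mul_mem (T'.conj_planeA (hES e.2) hz1) (inv_mem hz1)
    have hcfix : ∀ d ∈ D, d⁻¹ * E.normalizerMonoidHom ⟨z, hzN.2⟩ d ∈ (⊥ : Subgroup E) := by
      intro d hd
      have hd' : (d : Ω) ∈ planeA y z := hd
      obtain ⟨j, k, hdk⟩ := (mem_planeA T'.hyz).1 hd'
      rw [Subgroup.mem_bot, inv_mul_eq_one]
      refine Subtype.ext ?_
      rw [coe_conjAut, hdk]
      exact ((T'.hyz.symm.zpow_right j).mul_right ((Commute.refl z).zpow_right k)).mul_inv_cancel.symm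
    by_cases hpres : ∀ α ∈ F.autGroup E, ∀ d ∈ D, α d ∈ D
    · have hzE := mem_of_stab hEp hEss.1 hno (bot_le : (⊥ : Subgroup E) ≤ D) bot_le
        (fun α hα => map_eq_of_forall_mem (hpres α hα)) (fun α _ => Subgroup.map_bot _) hzN
        ⟨hcD, hcfix⟩
      exact int_not_dvd_one (hAE 0 1 (by simpa using hzE))
    by_cases hl : (p : ℤ) ∣ l
    · push Not at hpres
      refine T'.finish hS hp hF (fun g => ?_) hEss.1 (Or.inl hpres)
      constructor
      · intro hg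
        obtain ⟨i, j, k, hk, rfl⟩ := hrep g hg
        exact T'.mem_maxR.1 (mul_mem (pow_mem (T'.mem_maxR.2 ⟨1, 0, l, hl, by simp [hw]⟩) i)
          (T'.mem_maxR.2 ⟨0, j, k, hk, by simp⟩))
      · rintro ⟨i, j, k, hk, rfl⟩
        have hxE : x' ∈ E := by simpa [hw] using mul_mem hgE (inv_mem (hZc l hl))
        exact mul_mem (mul_mem (zpow_mem hxE i) (zpow_mem hyE j)) (hZc k hk)
    refine hpres fun α _ d hd => ?_
    have hdq : d ^ qn = 1 := by
      have hd' : (d : Ω) ∈ planeA y z := hd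
      obtain ⟨j, k, hdk⟩ := (mem_planeA T'.hyz).1 hd'
      have hk : (p : ℤ) ∣ k := hAE j k (hdk ▸ d.2)
      refine Subtype.ext ?_
      rw [Subgroup.coe_pow, hdk, ← zpow_natCast, hqq, (T'.hyz.zpow_zpow j k).mul_zpow, ← zpow_mul,
        ← zpow_mul, T'.ypow (T'.dvd_q.mul_left j), one_mul, hzpowq k hk]
      rfl
    have he : ((α d : E) : Ω) ^ qn = 1 := by
      rw [← Subgroup.coe_pow, ← map_pow, hdq, map_one]; rfl
    by_contra hcon
    obtain ⟨i, j, k, hek⟩ := T'.cover (hES (α d).2)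
    have hi : ¬ (p : ℤ) ∣ i := fun h => hcon (by
      show (α d : Ω) ∈ planeA y z
      rw [hek]; exact T'.mem_planeA_iff.2 h)
    obtain ⟨b, hb⟩ := exists_inverse_nat hi
    obtain ⟨a', k', hak⟩ := T'.pow_coord i j k b
    rw [zpow_eq_of_dvd T'.hx hb, zpow_one, ← hek] at hak
    have hk' : (p : ℤ) ∣ k' - l := by
      have hmem := mul_mem (inv_mem hgE) (pow_mem (α d).2 b)
      rw [hak] at hmem
      refine hAE a' (k' - l) ?_
      rwa [hw, show (x' * z ^ l)⁻¹ * (x' * y ^ a' * z ^ k') = (z ^ l)⁻¹ * (y ^ a' * z ^ k') by group,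
        ← (T'.hyz.zpow_zpow a' l).inv_right.left_comm, ← zpow_neg, ← zpow_add, neg_add_eq_sub] at hmem
    have hpow : ((α d : Ω) ^ b) ^ qn = z ^ (k' * q) := by
      rw [hak, mul_assoc x', hqn, show m - 1 = 1 + (m - 2) by omega, pow_add, pow_one, pow_mul, T'.pow_p hp,
        ← zpow_natCast, ← zpow_mul]
      congr 1
      rw [hqd, show m - 1 = 1 + (m - 2) by omega, pow_add, pow_one]; push_cast; ring
    rw [← pow_mul, mul_comm, pow_mul, he, one_pow] at hpow
    exact hl (by simpa using dvd_sub (hzq k' hpow.symm) hk')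
  -- `y ∉ E`: `E = ⟨w⟩ Zc`
  have hrep' : ∀ e ∈ E, ∃ i : ℕ, ∃ k : ℤ, (p : ℤ) ∣ k ∧ e = w ^ i * z ^ k := by
    intro e he
    obtain ⟨i, j, k, hk, rfl⟩ := hrep e he
    refine ⟨i, k, hk, ?_⟩
    have hj : (p : ℤ) ∣ j := by
      by_contra hj
      have h1 : y ^ j ∈ E := by
        simpa [mul_assoc] using mul_mem (mul_mem (inv_mem (pow_mem hgE i)) he) (inv_mem (hZc k hk))
      obtain ⟨j', hj'⟩ := exists_inverse_int hj
      exact hyE (by rw [← zpow_one y, ← zpow_eq_of_dvd T'.hy hj', zpow_mul]; exact zpow_mem h1 _)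
    rw [T'.ypow hj, one_mul]
  have hyw : y * w * y⁻¹ = w * z ^ (s * q) := by
    rw [hw, show y * (x' * z ^ l) * y⁻¹ = x' * (x'⁻¹ * y * x') * (z ^ l * y⁻¹) by group, hxy,
      ← (T'.hyz.inv_left.zpow_right l).eq]
    calc x' * (y * z ^ (s * q)) * (y⁻¹ * z ^ l)
        = x' * (y * z ^ (s * q) * y⁻¹) * z ^ l := by group
      _ = _ := by rw [(T'.hyz.zpow_right _).mul_inv_cancel]; group
  have hwt : Commute w (z ^ (s * q)) :=
    T'.zk_comm T'.dvd_t (hES hgE)
  have hyconj : ∀ (i : ℕ) (k : ℤ), y * (w ^ i * z ^ k) * y⁻¹ =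
      w ^ i * z ^ k * (z ^ (s * q)) ^ i := by
    intro i k
    rw [show y * (w ^ i * z ^ k) * y⁻¹ = y * w ^ i * y⁻¹ * (y * z ^ k * y⁻¹) by group, ← conj_pow,
      hyw, hwt.mul_pow, (T'.hyz.zpow_right k).mul_inv_cancel, mul_assoc, mul_assoc,
      (((Commute.refl z).zpow_zpow (s * q) k).pow_left i).eq]
  have hyN : y ∈ normalizerIn S E := by
    refine ⟨T'.y_mem, mem_normalizer_of_conj fun e he => ?_⟩
    obtain ⟨i, k, hk, rfl⟩ := hrep' e he
    rw [hyconj]
    exact mul_mem he (pow_mem (hZc _ T'.dvd_t) i)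
  by_cases hcase : 3 ≤ m ∨ ¬ (p : ℤ) ∣ l
  · have hΦ : (⟨z ^ (s * q), hZc _ T'.dvd_t⟩ : E) ∈ frattini E := by
      rcases Classical.em (3 ≤ m) with hm3 | hm3
      · set u : ℤ := s * (p : ℤ) ^ (m - 2) with hu
        have hdu : (p : ℤ) ∣ u := (dvd_pow_self _ (by omega)).mul_left _
        rw [show (⟨z ^ (s * q), hZc _ T'.dvd_t⟩ : E) = (⟨z ^ u, hZc u hdu⟩ : E) ^ p from
          Subtype.ext (by
            rw [Subgroup.coe_pow]
            show z ^ (s * q) = (z ^ u) ^ p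
            rw [← zpow_natCast, ← zpow_mul, hqd, hu,
              show m - 1 = (m - 2) + 1 by omega, pow_succ]
            congr 1; ring)]
        exact PGroup.pow_mem_frattini hEp _
      · have hl := hcase.resolve_left hm3
        obtain ⟨l', hl'⟩ := exists_inverse_int hl
        rw [show (⟨z ^ (s * q), hZc _ T'.dvd_t⟩ : E) = ((⟨w, hgE⟩ : E) ^ (s * l')) ^ p from
          Subtype.ext (by
            rw [Subgroup.coe_pow, Subgroup.coe_zpow]
            show z ^ (s * q) = (w ^ (s * l')) ^ p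
            have hwp : w ^ p = z ^ ((p : ℤ) * l) := by
              rw [hw, show x' * z ^ l = x' * (y ^ (0 : ℤ) * z ^ l) by rw [zpow_zero, one_mul],
                T'.pow_p hp]
            rw [← zpow_natCast (w ^ (s * l')), ← zpow_mul, mul_comm (s * l'), zpow_mul w (p : ℤ) (s * l'), zpow_natCast,
              hwp, ← zpow_mul]
            refine T'.zpow_congr ?_
            have hm2 : m = 2 := by omega
            obtain ⟨v, hv⟩ := hl'
            rw [hqd, hm2]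
            exact ⟨-(s * v), by push_cast; linear_combination (-(p : ℤ) * s) * hv⟩)]
        exact PGroup.pow_mem_frattini hEp _
    refine hyE (mem_of_stab hEp hEss.1 hno (le_refl (frattini E)) le_rfl
      (fun α _ => map_frattini_eq α) (fun α _ => map_frattini_eq α) hyN
      (mem_stab.2 ⟨fun e => ?_, fun e _ => ?_⟩))
    all_goals
      obtain ⟨i, k, hk, hek⟩ := hrep' e e.2
      rw [show e⁻¹ * E.normalizerMonoidHom ⟨y, hyN.2⟩ e = (⟨z ^ (s * q), hZc _ T'.dvd_t⟩ : E) ^ i from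
        Subtype.ext (by
          rw [Subgroup.coe_mul, Subgroup.coe_inv, coe_conjAut, Subgroup.coe_pow, hek, hyconj,
            inv_mul_cancel_left])]
      exact pow_mem hΦ i
  push Not at hcase
  obtain ⟨hm3, hl⟩ := hcase
  have hxE : x' ∈ E := by simpa [hw] using mul_mem hgE (inv_mem (hZc l hl))
  refine T'.not_pearl hS hp hF hEss (by omega) fun g => ⟨fun hg => ?_, ?_⟩
  · obtain ⟨i, k, hk, rfl⟩ := hrep' g hg
    refine ⟨i, l * i + k, dvd_add (hl.mul_right _) hk, ?_⟩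
    rw [hw, (T'.zk_comm_x hl).mul_pow, ← zpow_natCast (z ^ l), ← zpow_mul, zpow_natCast x', mul_assoc,
      ← zpow_add]
  · rintro ⟨i, k, hk, rfl⟩
    exact mul_mem (zpow_mem hxE i) (hZc k hk)

end Cfsg.Agent.H73.Resistant
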